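import Groth.Agent.Lib.ProjAlg.Chart

/-!
# H-projective morphisms are projective
-/

universe u

set_option backward.isDefEq.respectTransparency false

open AlgebraicGeometry CategoryTheory CategoryTheory.Limits TopologicalSpace Opposite
  HomogeneousLocalization GrothLib.ProjPt

noncomputable section

namespace GrothLib.ProjAlg

/-- A chart point composed with `Proj.map`. -/
theorem pt_comp_map {A B σ τ : Type u} [CommRing A] [SetLike σ A] [AddSubgroupClass σ A]
    [CommRing B] [SetLike τ B] [AddSubgroupClass τ B] {𝒜 : ℕ → σ} {ℬ : ℕ → τ} [GradedRing 𝒜]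
    [GradedRing ℬ] (φ : 𝒜 →+*ᵍ ℬ)
    (hφ : HomogeneousIdeal.irrelevant ℬ ≤ (HomogeneousIdeal.irrelevant 𝒜).map φ)
    {T : Scheme.{u}} (g : B →+* Γ(T, ⊤)) (g' : A →+* Γ(T, ⊤)) (hg : ∀ a, g (φ a) = g' a)
    {d : ℕ} (hd : 0 < d) {x : A} (hx : x ∈ 𝒜 d) {y : B} (hy : y ∈ ℬ d) (hxy : φ x = y)
    (hgy : IsUnit (g y)) (hgx : IsUnit (g' x)) :
    pt ℬ hy hd (evalAway ℬ g y hgy) ≫ Proj.map φ hφ = pt 𝒜 hx hd (evalAway 𝒜 g' x hgx) := by
  subst hxy
  rw [pt, pt, Category.assoc, Category.assoc, Proj.awayι_comp_map φ hφ hd x hx, ← Spec.map_comp_assoc]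
  congr 2
  congr 1
  apply CommRingCat.hom_ext
  refine RingHom.ext fun z => ?_
  obtain ⟨n, a, ha, rfl⟩ := Away.mk_surjective 𝒜 hx z
  simp only [CommRingCat.hom_comp, CommRingCat.hom_ofHom, RingHom.comp_apply, Away.map_mk]
  refine (hgx.pow n).mul_left_injective ?_
  dsimp only
  rw [evalAway_mk_spec 𝒜 g' hx hgx n a ha, ← hg x]
  exact (evalAway_mk_spec ℬ g (φ.2 hx) hgy n (φ a) _).trans (hg a)

namespace Coord

variable {X S : Scheme.{u}} {f : X ⟶ S} {N : ℕ} (c : Coord f N) {U : S.Opens} (hU : IsAffineOpen U)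

theorem ε_bRes {V : S.Opens} (hV : IsAffineOpen V) (h : V ≤ U) (i : Fin (N + 1)) (s : c.B U) :
    c.ε hV i (c.bRes h s) = res (c.W_mono i h) (c.ε hU i s) := by
  obtain ⟨P, rfl⟩ := c.quot_surjective hU s
  have e : c.bRes h (c.quot U P) = c.quot V (polyRes h P) := Subtype.ext (c.ambRes_ev h P)
  rw [e, c.ε_quot hV, c.ε_quot hU, c.res_evT h]

theorem bRes_T {V : S.Opens} (h : V ≤ U) (i : Fin (N + 1)) : c.bRes h (c.T U i) = c.T V i :=
  Subtype.ext ((c.ambRes_ev h _).trans (by simp [polyRes, T, coe_quot]))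

/-- The chart over an affine open. -/
def chart (U : S.Opens) (hU : IsAffineOpen U) :
    (f ⁻¹ᵁ U).toScheme ≅ Proj (c.alg.deg U hU) :=
  haveI : IsIso (c.φ hU) := c.isIso_φ hU
  asIso (c.φ hU)

theorem isRelProj : RelProj.IsRelProj c.alg f c.chart where
  chart_over U hU := by
    refine ((f ⁻¹ᵁ U).toScheme.openCoverOfIsOpenCover _ (c.isOpenCover_piece' (U := U))).hom_ext _ _
      fun i => ?_
    change (c.piece' i U).ι ≫ c.φ hU ≫ Proj.toSpecZero (c.dg hU) ≫
      Spec.map (c.alg.strZero U hU) ≫ hU.fromSpec = _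
    let h : (c.piece' i U).toScheme ⟶ X := (c.piece' i U).ι ≫ (f ⁻¹ᵁ U).ι
    have e : ⊤ ≤ h ⁻¹ᵁ c.W i U := c.le_preimage_piece' i
    have hP : IsAffineOpen (⊤ : (c.piece' i U).toScheme.Opens) := by
      have hr : h.opensRange = c.W i U := by
        ext x
        constructor
        · rintro ⟨y, rfl⟩; exact ⟨y.2, y.1.2⟩
        · rintro ⟨h1, h2⟩; exact ⟨⟨⟨x, h2⟩, h1⟩, rfl⟩
      rw [← Scheme.Hom.isAffineOpen_iff_of_isOpenImmersion h, Scheme.Hom.image_top_eq_opensRange, hr]
      exact c.affine i U hU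
    rw [← Category.assoc, c.ι_φ hU, ptT, pt]
    change _ = h ≫ f
    rw [Category.assoc, Category.assoc, Proj.awayι_toSpecZero_assoc, ← Spec.map_comp_assoc,
      ← Spec.map_comp_assoc]
    have e2 : ⊤ ≤ (h ≫ f) ⁻¹ᵁ U := fun x hx => (e hx).2
    have key : c.alg.strZero U hU ≫
        CommRingCat.ofHom (fromZeroRingHom (c.dg hU) (Submonoid.powers (c.T U i))) ≫
        CommRingCat.ofHom (evalAway (c.dg hU) (c.gT hU i h e) (c.T U i) (c.isUnit_gT hU i h e)) =
        (h ≫ f).appLE U ⊤ e2 := by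
      ext a
      have hmem : c.quot U (MvPolynomial.C a) ∈ c.dg hU (0 • 1) := by
        rw [zero_smul]; exact c.ev_mem_deg (MvPolynomial.isHomogeneous_C _ a)
      have h1 := evalAway_mk_spec (c.dg hU) (c.gT hU i h e) (c.T_mem' hU i) (c.isUnit_gT hU i h e) 0 _ hmem
      rw [pow_zero, mul_one] at h1
      have h2 : fromZeroRingHom (c.dg hU) (Submonoid.powers (c.T U i)) ((c.alg.strZero U hU).hom a) =
          Away.mk (c.dg hU) (c.T_mem' hU i) 0 _ hmem := by
        apply HomogeneousLocalization.val_injective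
        rw [Away.val_mk]
        change Localization.mk _ _ = _
        congr 1
      simp only [CommRingCat.hom_comp, CommRingCat.hom_ofHom, RingHom.comp_apply]
      refine (congrArg _ h2).trans (h1.trans ?_)
      rw [gT, RingHom.comp_apply, c.ε_cst hU, str, ← CommRingCat.comp_apply,
        Scheme.Hom.appLE_comp_appLE]
    erw [key]
    rw [IsAffineOpen.SpecMap_appLE_fromSpec (h ≫ f) hU hP]
    haveI : IsAffine (c.piece' i U).toScheme := by
      haveI : IsAffine (⊤ : (c.piece' i U).toScheme.Opens).toScheme := hP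
      exact IsAffine.of_isIso (c.piece' i U).toScheme.topIso.inv
    rw [← Category.assoc, IsAffineOpen.fromSpec_top]
    exact (congrArg (· ≫ (h ≫ f)) (Scheme.isoSpec (c.piece' i U).toScheme).hom_inv_id).trans
      (Category.id_comp _)
  chart_res U hU r := by
    have hV : IsAffineOpen (S.basicOpen r) := hU.basicOpen r
    refine ((f ⁻¹ᵁ S.basicOpen r).toScheme.openCoverOfIsOpenCover _
      (c.isOpenCover_piece' (U := S.basicOpen r))).hom_ext _ _ fun i => ?_
    change (c.piece' i (S.basicOpen r)).ι ≫ X.homOfLE _ ≫ c.φ hU =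
      (c.piece' i (S.basicOpen r)).ι ≫ c.φ hV ≫ _
    let a : (c.piece' i (S.basicOpen r)).toScheme ⟶ (c.piece' i U).toScheme :=
      IsOpenImmersion.lift (c.piece' i U).ι
        ((c.piece' i (S.basicOpen r)).ι ≫ X.homOfLE (f.preimage_mono (S.basicOpen_le r))) (by
          rintro _ ⟨x, rfl⟩
          rw [Scheme.Opens.range_ι]
          change (f ⁻¹ᵁ U).ι _ ∈ c.D i
          rw [← Scheme.Hom.comp_apply, Category.assoc, Scheme.homOfLE_ι]
          exact x.2)
    have ha : a ≫ (c.piece' i U).ι =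
        (c.piece' i (S.basicOpen r)).ι ≫ X.homOfLE (f.preimage_mono (S.basicOpen_le r)) :=
      IsOpenImmersion.lift_fac _ _ _
    let h : (c.piece' i (S.basicOpen r)).toScheme ⟶ X :=
      (c.piece' i (S.basicOpen r)).ι ≫ (f ⁻¹ᵁ S.basicOpen r).ι
    have ha2 : a ≫ (c.piece' i U).ι ≫ (f ⁻¹ᵁ U).ι = h := by
      rw [← Category.assoc, ha, Category.assoc, Scheme.homOfLE_ι]
    have e : ⊤ ≤ h ⁻¹ᵁ c.W i (S.basicOpen r) := c.le_preimage_piece' i
    have eU : ⊤ ≤ h ⁻¹ᵁ c.W i U := e.trans (h.preimage_mono (c.W_mono i (S.basicOpen_le r)))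
    have eU' : ⊤ ≤ (a ≫ (c.piece' i U).ι ≫ (f ⁻¹ᵁ U).ι) ⁻¹ᵁ c.W i U := ha2.symm ▸ eU
    rw [← Category.assoc, ← ha, Category.assoc, c.ι_φ hU, c.comp_ptT hU a i _ _ eU',
      ← Category.assoc (c.piece' i (S.basicOpen r)).ι (c.φ hV), c.ι_φ hV]
    refine Eq.trans ?_ (pt_comp_map (c.alg.res hU hV (S.basicOpen_le r)) _ (c.gT hV i h e)
      (c.gT hU i h eU) (fun s => ?_) one_pos (c.T_mem' hU i) (c.T_mem' hV i)
      (c.bRes_T (S.basicOpen_le r) i) (c.isUnit_gT hV i h e) (c.isUnit_gT hU i h eU)).symm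
    · show c.ptT hU i _ _ = c.ptT hU i h eU
      congr 1
    · show c.gT hV i h e (c.bRes (S.basicOpen_le r) s) = _
      simp only [gT, RingHom.comp_apply]
      rw [c.ε_bRes hU hV, res, ← CommRingCat.comp_apply, Scheme.Hom.map_appLE]
      rfl

theorem isGenDegOne : c.alg.IsGenDegOne := by
  intro U hU
  rw [eq_top_iff]
  intro (s : c.B U) hs
  clear hs
  obtain ⟨P, rfl⟩ := c.quot_surjective hU s
  induction P using MvPolynomial.induction_on with
  | C a => exact Subring.subset_closure (Or.inl (c.ev_mem_deg (MvPolynomial.isHomogeneous_C _ a)))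
  | add P Q hP hQ => rw [map_add]; exact add_mem hP hQ
  | mul_X P k hP =>
    rw [map_mul]
    exact mul_mem hP (Subring.subset_closure (Or.inr (c.T_mem k)))

theorem isFTDeg_one : c.alg.IsFTDeg 1 := by
  intro U hU
  letI : DecidableEq (c.B U) := Classical.decEq _
  refine ⟨(Finset.univ.image (c.T U) : Finset (c.B U)), fun t ht => ?_, fun (x : c.B U) hx => ?_⟩
  · obtain ⟨k, -, rfl⟩ := Finset.mem_image.mp ht
    exact c.T_mem k
  · obtain ⟨P, hP, rfl⟩ := c.exists_quot_of_mem_deg hU hx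
    have hspan : P ∈ Submodule.span Γ(S, U)
        (Set.range (MvPolynomial.X : Fin (N + 1) → MvPolynomial (Fin (N + 1)) Γ(S, U))) := by
      rw [← MvPolynomial.homogeneousSubmodule_one_eq_span_X]
      exact hP
    rw [Submodule.mem_span_range_iff_exists_fun] at hspan
    obtain ⟨a, rfl⟩ := hspan
    refine ⟨fun t => ∑ k ∈ Finset.univ.filter (fun k => c.T U k = t), a k, ?_⟩
    show c.quot U _ = ∑ t ∈ Finset.univ.image (c.T U),
      (c.quot U).comp MvPolynomial.C (∑ k ∈ Finset.univ.filter (fun k => c.T U k = t), a k) * t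
    simp only [map_sum, Finset.sum_mul]
    rw [← Finset.sum_fiberwise_of_maps_to
      (fun k _ => Finset.mem_image_of_mem (c.T U) (Finset.mem_univ k))]
    refine Finset.sum_congr rfl fun t ht => Finset.sum_congr rfl fun k hk => ?_
    rw [RingHom.comp_apply, ← (Finset.mem_filter.mp hk).2, T, ← map_mul, MvPolynomial.smul_eq_C_mul]

include c in
theorem isProjective : RelProj.IsProjective f :=
  ⟨c.alg, X, f, c.chart, Iso.refl X, c.isGenDegOne, c.isFTDeg_one, c.isRelProj, Category.id_comp f⟩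

end Coord

/-- An H-projective morphism is projective. -/
theorem isProjective_of_isHProjective {X S : Scheme.{u}} {f : X ⟶ S}
    (hf : RelProj.IsHProjective f) : RelProj.IsProjective f := by
  obtain ⟨N, i, hi, hif⟩ := hf
  exact (Coord.ofClosedImmersion f i hif).isProjective

end GrothLib.ProjAlg
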