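import Groth.Prelude.Def_RelProj
import Groth.Agent.Lib.Chow.Prod

/-!
# Projective morphisms are proper
-/

universe u

set_option backward.isDefEq.respectTransparency false

open AlgebraicGeometry CategoryTheory CategoryTheory.Limits TopologicalSpace Opposite
  HomogeneousLocalization

noncomputable section

namespace GrothLib.ProjAlg

section closed

variable {A B σ τ : Type u} [CommRing A] [SetLike σ A] [AddSubgroupClass σ A]
  [CommRing B] [SetLike τ B] [AddSubgroupClass τ B] {𝒜 : ℕ → σ} {ℬ : ℕ → τ} [GradedRing 𝒜]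
  [GradedRing ℬ] (φ : 𝒜 →+*ᵍ ℬ)
  (hφ : HomogeneousIdeal.irrelevant ℬ ≤ (HomogeneousIdeal.irrelevant 𝒜).map φ)

theorem away_map_surjective_of_pos (hsurj : ∀ n, 0 < n → ∀ b ∈ ℬ n, ∃ a, φ a = b) {i : ℕ} (hi : 0 < i)
    (s : A) (hs : s ∈ 𝒜 i) : Function.Surjective (Away.map φ s) := by
  intro y
  obtain ⟨n, x, hx, rfl⟩ := Away.mk_surjective ℬ (φ.2 hs) y
  have hx' : x * φ s ∈ ℬ ((n + 1) • i) := by
    rw [add_smul, one_smul]
    exact SetLike.mul_mem_graded hx (φ.2 hs)
  obtain ⟨a, ha⟩ := hsurj _ (smul_pos (Nat.succ_pos n) hi) _ hx'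
  refine ⟨Away.mk 𝒜 hs (n + 1) _ (DirectSum.decompose 𝒜 a ((n + 1) • i)).2, ?_⟩
  rw [Away.map_mk]
  apply HomogeneousLocalization.val_injective
  rw [Away.val_mk, Away.val_mk, Localization.mk_eq_mk_iff, Localization.r_iff_exists]
  refine ⟨1, ?_⟩
  simp only [OneMemClass.coe_one, one_mul]
  rw [GradedRingHom.map_directSumDecompose, ha, DirectSum.decompose_of_mem_same ℬ hx', pow_succ]
  simp only [map_pow, GradedRingHom.coe_toRingHom]
  ring

theorem isClosedImmersion_map_of_pos (hsurj : ∀ n, 0 < n → ∀ b ∈ ℬ n, ∃ a, φ a = b) :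
    IsClosedImmersion (Proj.map φ hφ) := by
  refine IsZariskiLocalAtTarget.of_openCover (P := @IsClosedImmersion)
    (Proj.affineOpenCover 𝒜).openCover fun (j : Σ i : PNat, 𝒜 i) => ?_
  have H : IsPullback (Spec.map (CommRingCat.ofHom (Away.map φ (j.2 : A))))
      (Proj.awayι ℬ (φ j.2) (φ.2 j.2.2) j.1.2) (Proj.awayι 𝒜 (j.2 : A) j.2.2 j.1.2) (Proj.map φ hφ) := by
    refine IsOpenImmersion.isPullback _ _ _ _ (Proj.awayι_comp_map φ hφ j.1.2 _ j.2.2) ?_
    rw [Proj.opensRange_awayι, Proj.opensRange_awayι, Proj.map_preimage_basicOpen]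
  have he := (IsPullback.of_hasPullback (Proj.map φ hφ) (Proj.awayι 𝒜 (j.2 : A) j.2.2 j.1.2)).flip
  have key := he.isoIsPullback_hom_fst _ _ H
  have h2 : IsClosedImmersion (pullback.snd (Proj.map φ hφ) (Proj.awayι 𝒜 (j.2 : A) j.2.2 j.1.2)) := by
    rw [← key]
    exact (MorphismProperty.cancel_left_of_respectsIso @IsClosedImmersion _ _).mpr
      (IsClosedImmersion.spec_of_surjective _ (away_map_surjective_of_pos φ hsurj j.1.2 _ j.2.2))
  exact h2

end closed

section ring

variable {A σ : Type u} [CommRing A] [SetLike σ A] [AddSubgroupClass σ A] (𝒜 : ℕ → σ) [GradedRing 𝒜]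
  {R : Type u} [CommRing R] (str : R →+* 𝒜 0) {M : ℕ} (t : Fin (M + 1) → A) (ht : ∀ k, t k ∈ 𝒜 1)

/-- The polynomial algebra on chosen degree-one elements, mapped to the graded ring. -/
def polyHom : MvPolynomial (Fin (M + 1)) R →+* A :=
  MvPolynomial.eval₂Hom ((algebraMap (𝒜 0) A).comp str) t

include ht in
theorem polyHom_mem {d : ℕ} {P : MvPolynomial (Fin (M + 1)) R} (hP : P.IsHomogeneous d) :
    polyHom 𝒜 str t P ∈ 𝒜 d := by
  rw [P.as_sum, map_sum]
  refine sum_mem fun e he => ?_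
  have hd : Finsupp.weight 1 e = d := hP (MvPolynomial.mem_support_iff.mp he)
  rw [polyHom, MvPolynomial.eval₂Hom_monomial, Finsupp.prod]
  have h2 : ∏ k ∈ e.support, t k ^ e k ∈ 𝒜 (∑ k ∈ e.support, e k) := by
    refine SetLike.prod_mem_graded _ _ _ fun k _ => ?_
    simpa using SetLike.pow_mem_graded (e k) (ht k)
  have h3 : ∑ k ∈ e.support, e k = d := by rw [← hd]; simp [Finsupp.weight_apply, Finsupp.sum]
  rw [h3] at h2
  have h := SetLike.mul_mem_graded (str (P.coeff e)).2 h2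
  rwa [zero_add] at h

/-- `polyHom` as a graded homomorphism. -/
def polyGHom : CohB1.polyGrading M R →+*ᵍ 𝒜 :=
  { polyHom 𝒜 str t with map_mem := fun {_ _} h => polyHom_mem 𝒜 str t ht h }

variable (hgen : Subring.closure ((𝒜 0 : Set A) ∪ (𝒜 1 : Set A)) = ⊤)
  (hspan : ∀ x ∈ 𝒜 1, ∃ a : Fin (M + 1) → R, x = ∑ k, (str (a k) : A) * t k)

include hgen in
theorem mem_span_one {n : ℕ} (hn : 0 < n) {b : A} (hb : b ∈ 𝒜 n) : b ∈ Ideal.span (𝒜 1 : Set A) := by
  let I : Ideal A := Ideal.span (𝒜 1 : Set A)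
  let Q : Subring A :=
    { carrier := {x | ∃ a ∈ 𝒜 0, x - a ∈ I}
      zero_mem' := ⟨0, zero_mem _, by simp⟩
      one_mem' := ⟨1, SetLike.GradedOne.one_mem, by simp⟩
      add_mem' := by
        rintro x y ⟨a, ha, hx⟩ ⟨c, hc, hy⟩
        exact ⟨a + c, add_mem ha hc, by rw [add_sub_add_comm]; exact I.add_mem hx hy⟩
      neg_mem' := by
        rintro x ⟨a, ha, hx⟩
        exact ⟨-a, neg_mem ha, by rw [show -x - -a = -(x - a) by ring]; exact I.neg_mem hx⟩
      mul_mem' := by
        rintro x y ⟨a, ha, hx⟩ ⟨c, hc, hy⟩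
        refine ⟨a * c, by simpa using SetLike.mul_mem_graded ha hc, ?_⟩
        rw [show x * y - a * c = (x - a) * y + a * (y - c) by ring]
        exact I.add_mem (I.mul_mem_right _ hx) (I.mul_mem_left _ hy) }
  have hQ : Q = ⊤ := by
    rw [eq_top_iff, ← hgen, Subring.closure_le]
    rintro x (hx | hx)
    · exact ⟨x, hx, by simp⟩
    · exact ⟨0, zero_mem _, by simpa using Ideal.subset_span hx⟩
  obtain ⟨a, ha, hba⟩ := (hQ.symm ▸ Subring.mem_top b : b ∈ Q)
  have hI : I.IsHomogeneous 𝒜 := Ideal.homogeneous_span 𝒜 _ fun x hx => ⟨1, hx⟩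
  have h := hI n hba
  rw [DirectSum.decompose_sub, DirectSum.sub_apply, AddSubgroupClass.coe_sub,
    DirectSum.decompose_of_mem_same 𝒜 hb, DirectSum.decompose_of_mem_ne 𝒜 ha (Nat.pos_iff_ne_zero.mp hn).symm,
    sub_zero] at h
  exact h

include ht hgen hspan in
theorem exists_preimage {n : ℕ} (hn : 0 < n) {b : A} (hb : b ∈ 𝒜 n) :
    ∃ P, P ∈ Ideal.span (Set.range (MvPolynomial.X : Fin (M + 1) → MvPolynomial (Fin (M + 1)) R)) ∧
      polyHom 𝒜 str t P = b := by
  let Xs := Ideal.span (Set.range (MvPolynomial.X : Fin (M + 1) → MvPolynomial (Fin (M + 1)) R))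
  let J : AddSubgroup A := Xs.toAddSubgroup.map (polyHom 𝒜 str t : _ →+* A).toAddMonoidHom
  have hXk : ∀ k, t k ∈ J := fun k =>
    ⟨MvPolynomial.X k, Ideal.subset_span ⟨k, rfl⟩, MvPolynomial.eval₂Hom_X' _ _ k⟩
  have hrange : ∀ P, ∀ x ∈ J, polyHom 𝒜 str t P * x ∈ J := by
    rintro P _ ⟨Q, hQ, rfl⟩
    exact ⟨P * Q, Xs.mul_mem_left P hQ, (polyHom 𝒜 str t).map_mul _ _⟩
  have hone : ∀ x ∈ 𝒜 1, x ∈ J := by
    intro x hx
    obtain ⟨a, rfl⟩ := hspan x hx
    refine sum_mem fun k _ => ?_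
    have := hrange (MvPolynomial.C (a k)) _ (hXk k)
    rw [polyHom, MvPolynomial.eval₂Hom_C] at this
    exact this
  let Q : Subring A :=
    { carrier := {x | ∀ y ∈ J, x * y ∈ J}
      zero_mem' := fun y _ => by rw [zero_mul]; exact J.zero_mem
      one_mem' := fun y hy => by rwa [one_mul]
      add_mem' := fun hx hy z hz => by rw [add_mul]; exact J.add_mem (hx z hz) (hy z hz)
      neg_mem' := fun hx z hz => by rw [neg_mul]; exact J.neg_mem (hx z hz)
      mul_mem' := fun hx hy z hz => by rw [mul_assoc]; exact hx _ (hy z hz) }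
  have hQ : Q = ⊤ := by
    rw [eq_top_iff, ← hgen, Subring.closure_le]
    rintro x (hx | hx) y hy
    · obtain ⟨P, hP, rfl⟩ := hy
      induction hP using Submodule.span_induction with
      | mem z hz =>
        obtain ⟨k, rfl⟩ := hz
        refine hone _ ?_
        change x * polyHom 𝒜 str t (MvPolynomial.X k) ∈ 𝒜 1
        simp only [polyHom, MvPolynomial.eval₂Hom_X']
        simpa using SetLike.mul_mem_graded hx (ht k)
      | zero => simp
      | add z w _ _ hz hw => rw [map_add, mul_add]; exact J.add_mem hz hw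
      | smul r z _ hz =>
        change x * polyHom 𝒜 str t (r * z) ∈ J
        rw [map_mul, mul_left_comm]
        exact hrange r _ hz
    · obtain ⟨P, -, hP⟩ := hone x hx
      rw [← hP]
      exact hrange P y hy
  have hJ : ∀ x ∈ Ideal.span (𝒜 1 : Set A), x ∈ J := by
    intro x hx
    induction hx using Submodule.span_induction with
    | mem z hz => exact hone z hz
    | zero => exact J.zero_mem
    | add z w _ _ hz hw => exact J.add_mem hz hw
    | smul r z _ hz => exact (hQ.symm ▸ Subring.mem_top r : r ∈ Q) z hz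
  exact hJ b (mem_span_one 𝒜 hgen hn hb)

include ht hgen hspan in
theorem irrelevant_le :
    HomogeneousIdeal.irrelevant 𝒜 ≤
      (HomogeneousIdeal.irrelevant (CohB1.polyGrading M R)).map (polyGHom 𝒜 str t ht) := by
  rw [HomogeneousIdeal.irrelevant_le]
  intro i hi b hb
  obtain ⟨P, hP, rfl⟩ := exists_preimage 𝒜 str t ht hgen hspan hi hb
  refine Ideal.mem_map_of_mem (polyGHom 𝒜 str t ht) (Ideal.span_le.mpr ?_ hP)
  rintro _ ⟨k, rfl⟩
  exact HomogeneousIdeal.mem_irrelevant_of_mem _ zero_lt_one (MvPolynomial.isHomogeneous_X R k)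

include ht hgen hspan in
/-- `Proj` of a graded ring generated in degree one by finitely many elements over a base is proper over it. -/
theorem isProper_toSpec : IsProper (Proj.toSpecZero 𝒜 ≫ Spec.map (CommRingCat.ofHom str)) := by
  let φ := polyGHom 𝒜 str t ht
  let g := Proj.map φ (irrelevant_le 𝒜 str t ht hgen hspan)
  haveI : IsClosedImmersion g := isClosedImmersion_map_of_pos φ _ fun n hn b hb => by
    obtain ⟨P, -, hP⟩ := exists_preimage 𝒜 str t ht hgen hspan hn hb
    exact ⟨P, hP⟩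
  haveI := GrothLib.Chow.isProper_toSpec M R
  have h : g ≫ CohB1.ProjSpace.toSpec M R =
      Proj.toSpecZero 𝒜 ≫ Spec.map (CommRingCat.ofHom str) := by
    refine (Proj.mapAffineOpenCover φ (irrelevant_le 𝒜 str t ht hgen hspan)).openCover.hom_ext _ _
      fun s => ?_
    simp only [Scheme.AffineOpenCover.openCover_f, Proj.mapAffineOpenCover_f, CohB1.ProjSpace.toSpec, g]
    rw [Proj.awayι_comp_map_assoc φ _ _ _ s.2.2, Proj.awayι_toSpecZero_assoc,
      Proj.awayι_toSpecZero_assoc]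
    simp only [← Spec.map_comp]
    congr 1
    ext r
    simp only [CommRingCat.hom_comp, CommRingCat.hom_ofHom, RingHom.comp_apply]
    simp only [Away.map, fromZeroRingHom, RingHom.coe_mk, MonoidHom.coe_mk, OneHom.coe_mk,
      HomogeneousLocalization.map_mk, val_mk]
    congr 1
    · exact (MvPolynomial.eval₂Hom_C _ _ r)
    · ext; exact map_one φ
  rw [← h]
  infer_instance

end ring

/-- A projective morphism is proper. -/
theorem isProper_of_isProjective {X S : Scheme.{u}} {f : X ⟶ S} (hf : RelProj.IsProjective f) :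
    IsProper f := by
  obtain ⟨𝒮, P, p, chart, e, hgen, hft, hp, rfl⟩ := hf
  suffices IsProper p from inferInstance
  refine IsZariskiLocalAtTarget.of_iSup_eq_top (P := @IsProper) (fun U : S.affineOpens => U.1)
    (iSup_affineOpens_eq_top S) fun U => ?_
  obtain ⟨U, hU⟩ := U
  haveI : IsProper (Proj.toSpecZero (𝒮.deg U hU) ≫ Spec.map (𝒮.strZero U hU)) := by
    obtain ⟨T, hT1, hT⟩ := hft U hU
    let t : Fin (T.card + 1) → 𝒮.presheaf.obj (op U) :=
      Fin.cons 0 (fun k => (T.equivFin.symm k).1)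
    refine isProper_toSpec (𝒮.deg U hU) (𝒮.strZero U hU).hom t ?_ (hgen U hU) ?_
    · intro k
      induction k using Fin.cases with
      | zero => simpa [t] using zero_mem (𝒮.deg U hU 1)
      | succ k => simpa [t] using hT1 (T.equivFin.symm k).2
    · intro x hx
      obtain ⟨c, rfl⟩ := hT x hx
      refine ⟨Fin.cons 0 (fun k => c (T.equivFin.symm k).1), ?_⟩
      rw [Fin.sum_univ_succ]
      simp only [t, Fin.cons_zero, mul_zero, zero_add, Fin.cons_succ]
      rw [← Finset.sum_coe_sort T, ← T.equivFin.symm.sum_comp]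
      rfl
  have h : p ∣_ U = (chart U hU).hom ≫
      (Proj.toSpecZero (𝒮.deg U hU) ≫ Spec.map (𝒮.strZero U hU)) ≫ hU.isoSpec.inv := by
    rw [← cancel_mono U.ι, morphismRestrict_ι, ← hp.chart_over U hU]
    simp only [Category.assoc]
    rfl
  change IsProper (p ∣_ U)
  rw [h]
  infer_instance

end GrothLib.ProjAlg
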