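import Groth.Agent.Lib.ProjAlg.Alg

/-!
# A closed subscheme of projective space is the relative `Proj` of its coordinate algebra
-/

universe u

set_option backward.isDefEq.respectTransparency false

open AlgebraicGeometry CategoryTheory CategoryTheory.Limits TopologicalSpace Opposite
  HomogeneousLocalization GrothLib.ProjPt

noncomputable section

namespace GrothLib.ProjAlg

namespace Coord

variable {X S : Scheme.{u}} {f : X ⟶ S} {N : ℕ} (c : Coord f N) {U : S.Opens} (hU : IsAffineOpen U)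

/-- The homogeneous coordinate ring as a quotient of the polynomial ring. -/
def quot (U : S.Opens) : MvPolynomial (Fin (N + 1)) Γ(S, U) →+* c.B U :=
  (c.ev U).codRestrict (c.B U) (c.ev_mem_B U)

theorem coe_quot (P : MvPolynomial (Fin (N + 1)) Γ(S, U)) : (c.quot U P : c.Amb U) = c.ev U P := rfl

include hU in
theorem quot_surjective : Function.Surjective (c.quot U) := fun s => by
  obtain ⟨P, hP⟩ := (c.B_eq_range hU).le s.2
  exact ⟨P, Subtype.ext hP⟩

theorem evT_eq_eval_evP (i : Fin (N + 1)) (P : MvPolynomial (Fin (N + 1)) Γ(S, U)) :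
    c.evT i U P = (c.evP i U P).eval 1 := by
  induction P using MvPolynomial.induction_on with
  | C a => simp [evT, evP]
  | add P Q hP hQ => simp [hP, hQ]
  | mul_X P k hP => rw [map_mul, map_mul, Polynomial.eval_mul, hP]; simp [evT, evP]

theorem ker_quot_le (i : Fin (N + 1)) : RingHom.ker (c.quot U) ≤ RingHom.ker (c.evT i U) := by
  intro P hP
  rw [RingHom.mem_ker] at hP ⊢
  have h : c.ev U P = 0 := congrArg Subtype.val hP
  have h2 : c.evP i U P = 0 := by
    apply Polynomial.coe_injective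
    rw [Polynomial.coe_zero]
    exact congrFun h i
  rw [evT_eq_eval_evP, h2, Polynomial.eval_zero]

/-- Dehomogenisation of the coordinate ring on `D i`. -/
def ε (i : Fin (N + 1)) : c.B U →+* Γ(X, c.W i U) :=
  (c.quot U).liftOfSurjective (c.quot_surjective hU) ⟨c.evT i U, c.ker_quot_le i⟩

theorem ε_quot (i : Fin (N + 1)) (P : MvPolynomial (Fin (N + 1)) Γ(S, U)) :
    c.ε hU i (c.quot U P) = c.evT i U P :=
  RingHom.liftOfRightInverse_comp_apply _ _ _ _ _

include hU in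
theorem exists_quot_of_mem_deg {d : ℕ} {s : c.B U} (hs : s ∈ c.deg U d) :
    ∃ P, P.IsHomogeneous d ∧ c.quot U P = s := by
  obtain ⟨P, hP, h⟩ := c.exists_homogeneous_of_mem_deg hU hs
  exact ⟨P, hP, Subtype.ext h⟩

theorem ε_of_mem_deg (i : Fin (N + 1)) {d : ℕ} {s : c.B U} (hs : s ∈ c.deg U d) :
    c.ε hU i s = PowerSeries.coeff d ((s : c.Amb U) i) := by
  obtain ⟨P, hP, rfl⟩ := c.exists_quot_of_mem_deg hU hs
  rw [c.ε_quot hU, coe_quot, coeff_ev, c.evP_of_homogeneous i U hP, Polynomial.coeff_monomial,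
    if_pos rfl]

theorem eq_zero_of_mem_deg {d : ℕ} {s : c.B U} (hs : s ∈ c.deg U d)
    (h : ∀ l, c.ε hU l s = 0) : s = 0 := by
  apply Subtype.ext
  funext i; ext n
  simp only [ZeroMemClass.coe_zero, Pi.zero_apply, map_zero]
  by_cases hn : n = d
  · subst hn; rw [← c.ε_of_mem_deg hU i hs, h]
  · exact hs i n hn

/-- The `k`-th coordinate. -/
def T (U : S.Opens) (k : Fin (N + 1)) : c.B U := c.quot U (MvPolynomial.X k)

theorem T_mem (k : Fin (N + 1)) : c.T U k ∈ c.deg U 1 :=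
  c.ev_mem_deg (MvPolynomial.isHomogeneous_X _ k)

theorem ε_T (i k : Fin (N + 1)) : c.ε hU i (c.T U k) = c.xV i k U := by
  rw [T, c.ε_quot hU]; simp [evT]

theorem ε_T_self (i : Fin (N + 1)) : c.ε hU i (c.T U i) = 1 := by
  rw [ε_T, xV, c.self, map_one]

theorem ε_cst (i : Fin (N + 1)) (a : Γ(S, U)) :
    c.ε hU i (c.quot U (MvPolynomial.C a)) = c.str i U a := by
  rw [c.ε_quot hU]; simp [evT]

theorem xV_change (i j k : Fin (N + 1)) {W : X.Opens} (hi : W ≤ c.W i U) (hj : W ≤ c.W j U) :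
    res hi (c.xV i k U) = res hi (c.xV i j U) * res hj (c.xV j k U) := by
  have h := congrArg (res (le_inf (hi.trans inf_le_left) (hj.trans inf_le_left) : W ≤ c.D i ⊓ c.D j))
    (c.change i j k)
  simp only [map_mul, res_res] at h ⊢
  exact h

theorem eval₂Hom_scale {A B : Type*} [CommRing A] [CommRing B] (σ : A →+* B) {n : Type*} (g : n → B) (a : B)
    {d : ℕ} {P : MvPolynomial n A} (hP : P.IsHomogeneous d) :
    MvPolynomial.eval₂Hom σ (fun k => a * g k) P = a ^ d * MvPolynomial.eval₂Hom σ g P := by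
  conv_lhs => rw [P.as_sum]
  conv_rhs => rw [P.as_sum]
  rw [map_sum, map_sum, Finset.mul_sum]
  refine Finset.sum_congr rfl fun e he => ?_
  simp only [MvPolynomial.eval₂Hom_monomial, Finsupp.prod, mul_pow, Finset.prod_mul_distrib,
    Finset.prod_pow_eq_pow_sum]
  rw [show ∑ x ∈ e.support, e x = d from ?_, mul_left_comm]
  have h := hP (MvPolynomial.mem_support_iff.mp he)
  rw [← h]
  simp [Finsupp.weight_apply, Finsupp.sum]

theorem twist (i j : Fin (N + 1)) {W : X.Opens} (hi : W ≤ c.W i U) (hj : W ≤ c.W j U) {d : ℕ}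
    {s : c.B U} (hs : s ∈ c.deg U d) :
    res hi (c.ε hU i s) = res hi (c.xV i j U) ^ d * res hj (c.ε hU j s) := by
  obtain ⟨P, hP, rfl⟩ := c.exists_quot_of_mem_deg hU hs
  rw [c.ε_quot hU, c.ε_quot hU]
  have key : ∀ (l : Fin (N + 1)) (hl : W ≤ c.W l U), res hl (c.evT l U P) =
      MvPolynomial.eval₂Hom (f.appLE U W (hl.trans inf_le_right)).hom
        (fun k => res hl (c.xV l k U)) P := by
    intro l hl
    simp only [evT, MvPolynomial.coe_eval₂Hom]
    rw [MvPolynomial.hom_eval₂]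
    congr 1
    ext a
    rw [RingHom.comp_apply, str, res, ← CommRingCat.comp_apply, Scheme.Hom.appLE_map]
  rw [key i hi, key j hj]
  rw [show (fun k => res hi (c.xV i k U)) = fun k => res hi (c.xV i j U) * res hj (c.xV j k U) from
    funext fun k => c.xV_change i j k hi hj]
  exact eval₂Hom_scale _ _ _ hP

theorem basicOpen_xV (l i : Fin (N + 1)) : X.basicOpen (c.xV l i U) = c.W l U ⊓ c.D i := by
  rw [xV, res, Scheme.basicOpen_res, c.basic]
  ext x
  exact ⟨fun h => ⟨h.1, h.2.2⟩, fun h => ⟨h.1, h.1.1, h.2⟩⟩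

/-! ### Bijectivity on a chart -/

/-- The grading over an affine open, indexed by the affineness proof. -/
def dg (_ : IsAffineOpen U) : ℕ → AddSubgroup (c.B U) := c.deg U

instance gradedDg : GradedRing (c.dg hU) := c.graded hU

theorem T_mem' (k : Fin (N + 1)) : c.T U k ∈ c.dg hU 1 := c.T_mem k

include hU in
theorem isUnit_ε_T (i : Fin (N + 1)) : IsUnit (c.ε hU i (c.T U i)) := by
  rw [c.ε_T_self hU]; exact isUnit_one

/-- Dehomogenisation on the degree-zero localization. -/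
def away (i : Fin (N + 1)) :
    letI := c.graded hU
    Away (c.deg U) (c.T U i) →+* Γ(X, c.W i U) :=
  letI := c.graded hU
  evalAway (c.deg U) (c.ε hU i) (c.T U i) (c.isUnit_ε_T hU i)

theorem away_bijective (i : Fin (N + 1)) :
    letI := c.graded hU
    Function.Bijective (c.away hU i) := by
  letI := c.graded hU
  have hmk : ∀ (n : ℕ) (a : c.B U) (ha : a ∈ c.deg U (n • 1)),
      c.away hU i (Away.mk (c.deg U) (c.T_mem i) n a ha) = c.ε hU i a := by
    intro n a ha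
    have h := evalAway_mk_spec (c.deg U) (c.ε hU i) (c.T_mem i) (c.isUnit_ε_T hU i) n a ha
    rwa [c.ε_T_self hU, one_pow, mul_one] at h
  constructor
  · rw [injective_iff_map_eq_zero]
    intro z hz
    obtain ⟨n, a, ha, rfl⟩ := Away.mk_surjective (c.deg U) (c.T_mem i) z
    rw [hmk] at hz
    have ha' : a ∈ c.deg U n := by simpa using ha
    have hk : ∀ l : Fin (N + 1), ∃ k, c.xV l i U ^ k * c.ε hU l a = 0 := by
      intro l
      refine exists_pow_mul_eq_zero_of_res_basicOpen_eq_zero_of_isCompact X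
        (c.affine l U hU).isCompact _ (c.xV l i U) ?_
      let W' : X.Opens := X.basicOpen (c.xV l i U)
      have hW' : W' = c.W l U ⊓ c.D i := c.basicOpen_xV l i
      have hl : W' ≤ c.W l U := hW' ▸ inf_le_left
      have hi : W' ≤ c.W i U := hW' ▸ le_inf inf_le_right (inf_le_left.trans inf_le_right)
      have h := c.twist hU l i hl hi ha'
      rw [hz, map_zero, mul_zero] at h
      exact h
    choose k hk using hk
    let K := Finset.univ.sup k
    have hzero : c.T U i ^ K * a = 0 := by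
      have hmem : c.T U i ^ K * a ∈ c.deg U (K + n) :=
        SetLike.mul_mem_graded (by simpa using SetLike.pow_mem_graded K (c.T_mem i)) ha'
      refine c.eq_zero_of_mem_deg hU hmem fun l => ?_
      obtain ⟨m, hm⟩ := Nat.exists_eq_add_of_le (Finset.le_sup (f := k) (Finset.mem_univ l))
      rw [map_mul, map_pow, c.ε_T hU, show K = k l + m from hm, pow_add, mul_comm (_ ^ _) (_ ^ m),
        mul_assoc, hk l, mul_zero]
    apply HomogeneousLocalization.val_injective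
    rw [Away.val_mk, HomogeneousLocalization.val_zero, Localization.mk_eq_mk',
      IsLocalization.mk'_eq_zero_iff]
    exact ⟨⟨_, K, rfl⟩, hzero⟩
  · intro b
    suffices b ∈ (c.away hU i).range from this
    have hb : b ∈ Subring.closure (Set.range (c.str i U) ∪ Set.range fun k => c.xV i k U) := by
      rw [c.gen i U hU]; trivial
    refine Subring.closure_le.mpr ?_ hb
    rintro _ (⟨a, rfl⟩ | ⟨k, rfl⟩)
    · refine ⟨Away.mk (c.deg U) (c.T_mem i) 0 (c.quot U (MvPolynomial.C a)) ?_, ?_⟩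
      · rw [zero_smul]; exact c.ev_mem_deg (MvPolynomial.isHomogeneous_C _ a)
      · rw [hmk, c.ε_cst hU]
    · refine ⟨Away.mk (c.deg U) (c.T_mem i) 1 (c.T U k) ?_, ?_⟩
      · rw [one_smul]; exact c.T_mem k
      · rw [hmk, c.ε_T hU]

/-! ### The morphism into `Proj` -/

section maps

variable {P : Scheme.{u}}

/-- The composite of dehomogenisation with a morphism into a piece. -/
def gT (i : Fin (N + 1)) (h : P ⟶ X) (e : ⊤ ≤ h ⁻¹ᵁ c.W i U) : c.B U →+* Γ(P, ⊤) :=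
  (h.appLE (c.W i U) ⊤ e).hom.comp (c.ε hU i)

theorem isUnit_gT (i : Fin (N + 1)) (h : P ⟶ X) (e : ⊤ ≤ h ⁻¹ᵁ c.W i U) :
    IsUnit (c.gT hU i h e (c.T U i)) :=
  (c.isUnit_ε_T hU i).map (h.appLE (c.W i U) ⊤ e).hom

/-- A morphism into a piece, composed with the chart. -/
def ptT (i : Fin (N + 1)) (h : P ⟶ X) (e : ⊤ ≤ h ⁻¹ᵁ c.W i U) : P ⟶ Proj (c.dg hU) :=
  pt (c.dg hU) (c.T_mem' hU i) one_pos
    (evalAway (c.dg hU) (c.gT hU i h e) (c.T U i) (c.isUnit_gT hU i h e))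

theorem comp_ptT {P' : Scheme.{u}} (g : P' ⟶ P) (i : Fin (N + 1)) (h : P ⟶ X)
    (e : ⊤ ≤ h ⁻¹ᵁ c.W i U) (e' : ⊤ ≤ (g ≫ h) ⁻¹ᵁ c.W i U) :
    g ≫ c.ptT hU i h e = c.ptT hU i (g ≫ h) e' := by
  rw [ptT, ptT, comp_pt, comp_evalAway _ _ _ (c.T_mem' hU i)]
  congr 2
  rw [gT, gT, ← RingHom.comp_assoc]
  congr 1
  rw [← CommRingCat.hom_comp]
  congr 1
  simp only [Scheme.Hom.appTop, Scheme.Hom.app_eq_appLE, Scheme.Hom.appLE_comp_appLE]
  rfl

theorem ptT_agree (i j : Fin (N + 1)) (h : P ⟶ X) (ei : ⊤ ≤ h ⁻¹ᵁ c.W i U)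
    (ej : ⊤ ≤ h ⁻¹ᵁ c.W j U) : c.ptT hU i h ei = c.ptT hU j h ej := by
  let W' : X.Opens := c.W i U ⊓ c.W j U
  have e : ⊤ ≤ h ⁻¹ᵁ W' := le_inf ei ej
  let ρ : Γ(X, W') →+* Γ(P, ⊤) := (h.appLE W' ⊤ e).hom
  let a : Γ(P, ⊤) := ρ (res (inf_le_left : W' ≤ c.W i U) (c.xV i j U))
  have hres : ∀ (l : Fin (N + 1)) (hl : W' ≤ c.W l U) (el : ⊤ ≤ h ⁻¹ᵁ c.W l U) (z : Γ(X, c.W l U)),
      (h.appLE (c.W l U) ⊤ el).hom z = ρ (res hl z) := by
    intro l hl el z
    rw [res, ← CommRingCat.comp_apply, Scheme.Hom.map_appLE]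
  have htw : ∀ d, ∀ s ∈ c.dg hU d, c.gT hU i h ei s = a ^ d * c.gT hU j h ej s := by
    intro d s hs
    simp only [gT, RingHom.comp_apply]
    rw [hres i inf_le_left ei, hres j inf_le_right ej,
      c.twist hU i j (inf_le_left : W' ≤ _) inf_le_right hs, map_mul, map_pow]
  have ha : IsUnit a := by
    have h1 := htw 1 _ (c.T_mem' hU i)
    rw [pow_one] at h1
    have h2 := c.isUnit_gT hU i h ei
    rw [h1] at h2
    exact isUnit_of_mul_isUnit_left h2
  have hij : IsUnit (c.gT hU i h ei (c.T U j)) := by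
    rw [htw 1 _ (c.T_mem' hU j), pow_one]
    exact ha.mul (c.isUnit_gT hU j h ej)
  rw [ptT, ptT, pt_evalAway_eq (c.dg hU) (c.T_mem' hU i) one_pos (c.gT hU i h ei)
    (c.isUnit_gT hU i h ei) (c.T_mem' hU j) one_pos hij]
  congr 1
  exact evalAway_eq_of_twist (c.dg hU) (c.gT hU j h ej) (c.gT hU i h ei) (c.T_mem' hU j)
    (c.isUnit_gT hU j h ej) hij a htw

theorem ptT_preimage (i k : Fin (N + 1)) (h : P ⟶ X) (e : ⊤ ≤ h ⁻¹ᵁ c.W i U) :
    c.ptT hU i h e ⁻¹ᵁ Proj.basicOpen (c.dg hU) (c.T U k) = h ⁻¹ᵁ c.D k := by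
  rw [ptT, pt_evalAway_preimage_basicOpen (c.dg hU) (c.T_mem' hU i) one_pos _ _ (c.T_mem' hU k) one_pos,
    gT, RingHom.comp_apply, c.ε_T hU, Scheme.basicOpen_appLE, c.basicOpen_xV, Scheme.Hom.preimage_inf]
  refine le_antisymm (fun x hx => hx.2.2) fun x hx => ⟨trivial, e trivial, hx⟩

end maps

/-- The pieces of the preimage of an affine open. -/
abbrev piece' (i : Fin (N + 1)) (U : S.Opens) : (f ⁻¹ᵁ U).toScheme.Opens := (f ⁻¹ᵁ U).ι ⁻¹ᵁ c.D i

theorem isOpenCover_piece' : IsOpenCover fun i => c.piece' i U := by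
  rw [IsOpenCover, ← Scheme.Hom.preimage_iSup, c.cover, Scheme.Hom.preimage_top]

theorem le_preimage_piece' (i : Fin (N + 1)) :
    ⊤ ≤ ((c.piece' i U).ι ≫ (f ⁻¹ᵁ U).ι) ⁻¹ᵁ c.W i U := fun x _ => ⟨x.2, x.1.2⟩

theorem ptT_agree' (i j : Fin (N + 1)) {P : Scheme.{u}} (a : P ⟶ (c.piece' i U).toScheme)
    (b : P ⟶ (c.piece' j U).toScheme) (hab : a ≫ (c.piece' i U).ι = b ≫ (c.piece' j U).ι) :
    a ≫ c.ptT hU i _ (c.le_preimage_piece' i) = b ≫ c.ptT hU j _ (c.le_preimage_piece' j) := by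
  have hi : ⊤ ≤ (a ≫ (c.piece' i U).ι ≫ (f ⁻¹ᵁ U).ι) ⁻¹ᵁ c.W i U :=
    le_of_eq (by rw [Scheme.Hom.comp_preimage, top_le_iff.mp (c.le_preimage_piece' i), Scheme.Hom.preimage_top])
  have hj : ⊤ ≤ (b ≫ (c.piece' j U).ι ≫ (f ⁻¹ᵁ U).ι) ⁻¹ᵁ c.W j U :=
    le_of_eq (by rw [Scheme.Hom.comp_preimage, top_le_iff.mp (c.le_preimage_piece' j), Scheme.Hom.preimage_top])
  rw [c.comp_ptT hU a i _ (c.le_preimage_piece' i) hi, c.comp_ptT hU b j _ (c.le_preimage_piece' j) hj]
  have h2 : b ≫ (c.piece' j U).ι ≫ (f ⁻¹ᵁ U).ι = a ≫ (c.piece' i U).ι ≫ (f ⁻¹ᵁ U).ι := by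
    rw [← Category.assoc, ← hab, Category.assoc]
  have hj' : ⊤ ≤ (a ≫ (c.piece' i U).ι ≫ (f ⁻¹ᵁ U).ι) ⁻¹ᵁ c.W j U := h2 ▸ hj
  rw [c.ptT_agree hU i j _ hi hj']
  congr 1
  exact h2.symm

/-- The morphism from the preimage of an affine open to `Proj` of the coordinate ring. -/
def φ : (f ⁻¹ᵁ U).toScheme ⟶ Proj (c.dg hU) :=
  ((f ⁻¹ᵁ U).toScheme.openCoverOfIsOpenCover _ (c.isOpenCover_piece' (U := U))).glueMorphisms
    (fun i => c.ptT hU i _ (c.le_preimage_piece' i)) fun i j =>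
      c.ptT_agree' hU i j _ _ pullback.condition

theorem ι_φ (i : Fin (N + 1)) :
    (c.piece' i U).ι ≫ c.φ hU = c.ptT hU i _ (c.le_preimage_piece' i) :=
  ((f ⁻¹ᵁ U).toScheme.openCoverOfIsOpenCover _ (c.isOpenCover_piece' (U := U))).ι_glueMorphisms _ _ i

theorem φ_preimage (k : Fin (N + 1)) :
    c.φ hU ⁻¹ᵁ Proj.basicOpen (c.dg hU) (c.T U k) = c.piece' k U := by
  ext x
  obtain ⟨i, y, rfl⟩ :=
    ((f ⁻¹ᵁ U).toScheme.openCoverOfIsOpenCover _ (c.isOpenCover_piece' (U := U))).exists_eq x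
  have h : (c.piece' i U).ι ⁻¹ᵁ (c.φ hU ⁻¹ᵁ Proj.basicOpen (c.dg hU) (c.T U k)) =
      (c.piece' i U).ι ⁻¹ᵁ c.piece' k U := by
    rw [← Scheme.Hom.comp_preimage, c.ι_φ hU, c.ptT_preimage hU]
    rfl
  exact SetLike.ext_iff.mp h y

theorem adjoin_T :
    Algebra.adjoin (c.dg hU 0) (Set.range (c.T U)) = (⊤ : Subalgebra _ (c.B U)) := by
  rw [eq_top_iff]
  intro s hs
  clear hs
  obtain ⟨P, rfl⟩ := c.quot_surjective hU s
  induction P using MvPolynomial.induction_on with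
  | C a =>
    exact Subalgebra.algebraMap_mem _
      (⟨c.quot U (MvPolynomial.C a), c.ev_mem_deg (MvPolynomial.isHomogeneous_C _ a)⟩ : c.dg hU 0)
  | add P Q hP hQ => rw [map_add]; exact Subalgebra.add_mem _ hP hQ
  | mul_X P k hP => rw [map_mul]; exact Subalgebra.mul_mem _ hP (Algebra.subset_adjoin ⟨k, rfl⟩)

theorem iSup_basicOpen_T : ⨆ k, Proj.basicOpen (c.dg hU) (c.T U k) = ⊤ :=
  Proj.iSup_basicOpen_eq_top' _ _ (fun j => ⟨1, c.T_mem' hU j⟩) (c.adjoin_T hU)

theorem isIso_φ : IsIso (c.φ hU) := by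
  refine IsZariskiLocalAtTarget.of_iSup_eq_top (P := MorphismProperty.isomorphisms Scheme.{u})
    (fun k => Proj.basicOpen (c.dg hU) (c.T U k)) (c.iSup_basicOpen_T hU) fun k => ?_
  let P := (c.piece' k U).toScheme
  let h : P ⟶ X := (c.piece' k U).ι ≫ (f ⁻¹ᵁ U).ι
  have hr : h.opensRange = c.W k U := by
    ext x
    constructor
    · rintro ⟨y, rfl⟩; exact ⟨y.2, y.1.2⟩
    · rintro ⟨h1, h2⟩; exact ⟨⟨⟨x, h2⟩, h1⟩, rfl⟩
  haveI : IsAffine P := by
    haveI : IsAffine (⊤ : P.Opens).toScheme := (Scheme.Hom.isAffineOpen_iff_of_isOpenImmersion h).mp (by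
      rw [Scheme.Hom.image_top_eq_opensRange, hr]; exact c.affine k U hU)
    exact IsAffine.of_isIso P.topIso.inv
  haveI hiso : IsIso (h.appLE (c.W k U) ⊤ (c.le_preimage_piece' k)) := by
    have h1 : h ⁻¹ᵁ c.W k U = ⊤ := top_le_iff.mp (c.le_preimage_piece' k)
    haveI : IsIso (h.app (c.W k U)) := h.isIso_app _ hr.ge
    rw [Scheme.Hom.appLE]
    haveI : IsIso (P.presheaf.map (homOfLE (c.le_preimage_piece' k)).op) := by
      rw [show (homOfLE (c.le_preimage_piece' k)).op = eqToHom (congrArg op h1) from Subsingleton.elim _ _]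
      infer_instance
    exact IsIso.comp_isIso
  let g := evalAway (c.dg hU) (c.gT hU k h (c.le_preimage_piece' k)) (c.T U k)
    (c.isUnit_gT hU k h _)
  haveI : IsIso (CommRingCat.ofHom g) := by
    have hg : g = (h.appLE (c.W k U) ⊤ (c.le_preimage_piece' k)).hom.comp (c.away hU k) :=
      (comp_evalAway (c.dg hU) _ (c.ε hU k) (c.T_mem' hU k) (c.isUnit_ε_T hU k)).symm
    rw [ConcreteCategory.isIso_iff_bijective]
    change Function.Bijective g
    rw [hg, RingHom.coe_comp]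
    exact ((ConcreteCategory.isIso_iff_bijective _).mp hiso).comp (c.away_bijective hU k)
  have e : c.φ hU ∣_ Proj.basicOpen (c.dg hU) (c.T U k) =
      (Scheme.isoOfEq _ (c.φ_preimage hU k)).hom ≫ P.toSpecΓ ≫ Spec.map (CommRingCat.ofHom g) ≫
        (Proj.basicOpenIsoSpec (c.dg hU) (c.T U k) (c.T_mem' hU k) one_pos).inv := by
    rw [← cancel_mono (Scheme.Opens.ι _), morphismRestrict_ι, Category.assoc, Category.assoc,
      Category.assoc, Proj.basicOpenIsoSpec_inv_ι]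
    change _ = _ ≫ c.ptT hU k h _
    rw [← c.ι_φ hU, ← Category.assoc, Scheme.isoOfEq_hom_ι]
  change IsIso _
  rw [e]
  haveI : IsIso P.toSpecΓ := IsAffine.affine
  infer_instance

end Coord

end GrothLib.ProjAlg
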