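import Groth.Agent.Lib.ProjAlg.Coord
import Mathlib.RingTheory.PowerSeries.Basic

/-!
# The sheaf of homogeneous coordinate rings of a closed subscheme of projective space over a base

For `c : Coord f N` and an affine open `U` of the base, the homogeneous coordinate ring is the image of
`O(U)[T₀, …, T_N]` in the product of the rings `O(f⁻¹U ∩ D i)[t]`, with `T k ↦ x i k · t`.  The families of power
series that are locally of this form make up a quasi-coherent graded algebra on the base.
-/

universe u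

set_option backward.isDefEq.respectTransparency false

open AlgebraicGeometry CategoryTheory CategoryTheory.Limits TopologicalSpace Opposite

noncomputable section

namespace GrothLib.ProjAlg

namespace Coord

variable {X S : Scheme.{u}} {f : X ⟶ S} {N : ℕ} (c : Coord f N)

/-- The part of `D i` over an open of the base. -/
abbrev W (i : Fin (N + 1)) (V : S.Opens) : X.Opens := c.D i ⊓ f ⁻¹ᵁ V

theorem W_mono (i : Fin (N + 1)) {V V' : S.Opens} (h : V' ≤ V) : c.W i V' ≤ c.W i V :=
  inf_le_inf_left _ (f.preimage_mono h)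

/-- The ambient ring: families of power series. -/
abbrev Amb (V : S.Opens) : Type u := ∀ i, PowerSeries Γ(X, c.W i V)

/-- The `k`-th coordinate ratio on a part of `D i`. -/
abbrev xV (i k : Fin (N + 1)) (V : S.Opens) : Γ(X, c.W i V) :=
  res (inf_le_left : c.W i V ≤ c.D i) (c.x i k)

/-- Functions of the base on a part of `D i`. -/
abbrev str (i : Fin (N + 1)) (V : S.Opens) : Γ(S, V) →+* Γ(X, c.W i V) :=
  (f.appLE V (c.W i V) inf_le_right).hom

/-- Dehomogenisation on `D i`. -/
def evT (i : Fin (N + 1)) (V : S.Opens) : MvPolynomial (Fin (N + 1)) Γ(S, V) →+* Γ(X, c.W i V) :=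
  MvPolynomial.eval₂Hom (c.str i V) fun k => c.xV i k V

/-- Dehomogenisation on `D i`, remembering degrees. -/
def evP (i : Fin (N + 1)) (V : S.Opens) :
    MvPolynomial (Fin (N + 1)) Γ(S, V) →+* Polynomial Γ(X, c.W i V) :=
  MvPolynomial.eval₂Hom (Polynomial.C.comp (c.str i V)) fun k =>
    Polynomial.C (c.xV i k V) * Polynomial.X

/-- The map to the ambient ring. -/
def ev (V : S.Opens) : MvPolynomial (Fin (N + 1)) Γ(S, V) →+* c.Amb V :=
  RingHom.pi fun i => Polynomial.coeToPowerSeries.ringHom.comp (c.evP i V)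

theorem ev_apply (V : S.Opens) (P) (i) : c.ev V P i = (c.evP i V P : PowerSeries Γ(X, c.W i V)) := rfl

theorem coeff_ev (V : S.Opens) (P) (i) (d : ℕ) :
    PowerSeries.coeff d (c.ev V P i) = (c.evP i V P).coeff d := Polynomial.coeff_coe _ _

theorem evP_monomial (i : Fin (N + 1)) (V : S.Opens) (e : Fin (N + 1) →₀ ℕ) (a : Γ(S, V)) :
    c.evP i V (MvPolynomial.monomial e a) =
      Polynomial.monomial e.degree (c.evT i V (MvPolynomial.monomial e a)) := by
  simp only [evP, evT, MvPolynomial.eval₂Hom_monomial, RingHom.comp_apply, Finsupp.prod, mul_pow,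
    Finset.prod_mul_distrib, Finset.prod_pow_eq_pow_sum, ← map_pow, ← map_prod]
  rw [← mul_assoc, ← map_mul, Polynomial.C_mul_X_pow_eq_monomial]
  rfl

theorem evP_of_homogeneous (i : Fin (N + 1)) (V : S.Opens) {d : ℕ} {P} (hP : P.IsHomogeneous d) :
    c.evP i V P = Polynomial.monomial d (c.evT i V P) := by
  conv_lhs => rw [P.as_sum]
  conv_rhs => rw [P.as_sum]
  rw [map_sum, map_sum, map_sum]
  refine Finset.sum_congr rfl fun e he => ?_
  rw [evP_monomial]
  congr 1
  rw [Finsupp.degree_eq_weight_one]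
  exact congrArg Polynomial.monomial (hP (MvPolynomial.mem_support_iff.mp he))

theorem coeff_evP (i : Fin (N + 1)) (V : S.Opens) (P) (d : ℕ) :
    (c.evP i V P).coeff d = c.evT i V (MvPolynomial.homogeneousComponent d P) := by
  conv_lhs => rw [← MvPolynomial.sum_homogeneousComponent P]
  rw [map_sum, Polynomial.finsetSum_coeff]
  simp only [c.evP_of_homogeneous i V (MvPolynomial.homogeneousComponent_isHomogeneous _ P),
    Polynomial.coeff_monomial]
  by_cases hd : d ∈ Finset.range (P.totalDegree + 1)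
  · rw [Finset.sum_ite_eq' _ d, if_pos hd]
  · rw [Finset.sum_ite_eq' _ d, if_neg hd, MvPolynomial.homogeneousComponent_eq_zero, map_zero]
    simpa [Nat.lt_succ_iff] using hd

/-! ### Restriction -/

/-- Restriction in the ambient ring. -/
def ambRes {V V' : S.Opens} (h : V' ≤ V) : c.Amb V →+* c.Amb V' :=
  RingHom.pi fun i => (PowerSeries.map (res (c.W_mono i h))).comp (Pi.evalRingHom _ i)

theorem coeff_ambRes {V V' : S.Opens} (h : V' ≤ V) (s : c.Amb V) (i) (d : ℕ) :
    PowerSeries.coeff d (c.ambRes h s i) = res (c.W_mono i h) (PowerSeries.coeff d (s i)) := by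
  simp [ambRes]

theorem ambRes_ambRes {V V' V'' : S.Opens} (h : V' ≤ V) (h' : V'' ≤ V') (s : c.Amb V) :
    c.ambRes h' (c.ambRes h s) = c.ambRes (h'.trans h) s := by
  funext i; ext d
  simp only [coeff_ambRes, res_res]

theorem ambRes_self {V : S.Opens} (h : V ≤ V) (s : c.Amb V) : c.ambRes h s = s := by
  funext i; ext d
  simp only [coeff_ambRes, res_self]

theorem res_str {V V' : S.Opens} (h : V' ≤ V) (i) (a : Γ(S, V)) :
    res (c.W_mono i h) (c.str i V a) = c.str i V' (res h a) := by
  rw [res, str, str, res, ← CommRingCat.comp_apply, ← CommRingCat.comp_apply,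
    Scheme.Hom.appLE_map, Scheme.Hom.map_appLE]

/-- Restriction of coefficients. -/
abbrev polyRes {V V' : S.Opens} (h : V' ≤ V) :
    MvPolynomial (Fin (N + 1)) Γ(S, V) →+* MvPolynomial (Fin (N + 1)) Γ(S, V') :=
  MvPolynomial.map (res h)

theorem res_evT {V V' : S.Opens} (h : V' ≤ V) (i) (P) :
    res (c.W_mono i h) (c.evT i V P) = c.evT i V' (polyRes h P) := by
  simp only [evT, polyRes, MvPolynomial.coe_eval₂Hom, MvPolynomial.eval₂_map]
  rw [MvPolynomial.hom_eval₂]
  congr 1
  · ext a; exact c.res_str h i a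
  · funext k; simp [res_res]

theorem map_evP {V V' : S.Opens} (h : V' ≤ V) (i) (P) :
    (c.evP i V P).map (res (c.W_mono i h)) = c.evP i V' (polyRes h P) := by
  simp only [evP, polyRes, MvPolynomial.coe_eval₂Hom, MvPolynomial.eval₂_map]
  rw [← Polynomial.coe_mapRingHom, MvPolynomial.hom_eval₂]
  congr 1
  · ext a : 1
    simp only [RingHom.comp_apply, Polynomial.coe_mapRingHom, Polynomial.map_C]
    rw [c.res_str h i a]
  · funext k; simp [res_res]

theorem ambRes_ev {V V' : S.Opens} (h : V' ≤ V) (P) :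
    c.ambRes h (c.ev V P) = c.ev V' (polyRes h P) := by
  funext i; ext d
  rw [coeff_ambRes, coeff_ev, coeff_ev, ← map_evP c h, Polynomial.coeff_map]

/-! ### Locality -/

theorem preimage_W_basicOpen (i : Fin (N + 1)) {U : S.Opens} (r : Γ(S, U)) :
    X.basicOpen (c.str i U r) = c.W i (S.basicOpen r) := by
  rw [str, Scheme.basicOpen_appLE, inf_assoc]
  congr 1
  exact inf_of_le_right (f.preimage_mono (S.basicOpen_le r))

theorem exists_pow_mul_eq_zero {i : Fin (N + 1)} {U : S.Opens} (hU : IsAffineOpen U) (r : Γ(S, U))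
    (a : Γ(X, c.W i U)) (ha : res (c.W_mono i (S.basicOpen_le r)) a = 0) :
    ∃ n : ℕ, c.str i U r ^ n * a = 0 := by
  refine exists_pow_mul_eq_zero_of_res_basicOpen_eq_zero_of_isCompact X
    (c.affine i U hU).isCompact a (c.str i U r) ?_
  have h : X.basicOpen (c.str i U r) ≤ c.W i (S.basicOpen r) := (c.preimage_W_basicOpen i r).le
  have h2 := congrArg (res h) ha
  rw [res_res, map_zero] at h2
  exact h2

theorem exists_polyRes_eq {U : S.Opens} (hU : IsAffineOpen U) (r : Γ(S, U))
    (P : MvPolynomial (Fin (N + 1)) Γ(S, S.basicOpen r)) :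
    ∃ (n : ℕ) (P' : MvPolynomial (Fin (N + 1)) Γ(S, U)),
      polyRes (S.basicOpen_le r) P' = polyRes (S.basicOpen_le r) (MvPolynomial.C (r ^ n)) * P := by
  induction P using MvPolynomial.induction_on with
  | C a =>
    haveI := hU.isLocalization_basicOpen r
    obtain ⟨⟨b, ⟨_, n, rfl⟩⟩, hb⟩ := IsLocalization.surj (Submonoid.powers r) a
    refine ⟨n, MvPolynomial.C b, ?_⟩
    simp only [polyRes, MvPolynomial.map_C, ← map_mul]
    congr 1
    rw [mul_comm]
    exact hb.symm
  | add P Q hP hQ =>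
    obtain ⟨m, P', hP'⟩ := hP
    obtain ⟨n, Q', hQ'⟩ := hQ
    refine ⟨m + n, MvPolynomial.C (r ^ n) * P' + MvPolynomial.C (r ^ m) * Q', ?_⟩
    simp only [map_add, map_mul, hP', hQ', map_pow, pow_add]
    ring
  | mul_X P k hP =>
    obtain ⟨n, P', hP'⟩ := hP
    refine ⟨n, P' * MvPolynomial.X k, ?_⟩
    rw [map_mul, hP', mul_assoc]
    simp [polyRes]

/-- Constants in the ambient ring. -/
abbrev cst (V : S.Opens) : Γ(S, V) →+* c.Amb V := (c.ev V).comp MvPolynomial.C

theorem coeff_cst_mul (V : S.Opens) (a : Γ(S, V)) (s : c.Amb V) (i) (d : ℕ) :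
    PowerSeries.coeff d ((c.cst V a * s) i) = c.str i V a * PowerSeries.coeff d (s i) := by
  have h : c.cst V a i = PowerSeries.C (c.str i V a) := by
    simp [cst, ev_apply, evP]
  rw [Pi.mul_apply, h, PowerSeries.coeff_C_mul]

theorem exists_bound (U : S.Opens) (P) : ∃ M : ℕ, ∀ i d, M < d →
    PowerSeries.coeff d (c.ev U P i) = 0 := by
  refine ⟨P.totalDegree, fun i d hd => ?_⟩
  rw [coeff_ev, coeff_evP, MvPolynomial.homogeneousComponent_eq_zero _ _ hd, map_zero]

theorem mem_range_ev_of_local {U : S.Opens} (hU : IsAffineOpen U) (s : c.Amb U) (t : Set Γ(S, U))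
    (ht : Ideal.span t = ⊤)
    (h : ∀ r ∈ t, c.ambRes (S.basicOpen_le r) s ∈ (c.ev (S.basicOpen r)).range) :
    s ∈ (c.ev U).range := by
  classical
  obtain ⟨t', ht't, ht'⟩ := Submodule.mem_span_finite_of_mem_span ((Ideal.eq_top_iff_one _).mp ht)
  have ht'' : Ideal.span (t' : Set Γ(S, U)) = ⊤ := (Ideal.eq_top_iff_one _).mpr ht'
  -- a bound on the degrees
  have hP : ∀ r : ↥t', ∃ P, c.ev (S.basicOpen r.1) P = c.ambRes (S.basicOpen_le r.1) s :=
    fun r => h r.1 (ht't r.2)
  choose P hP using hP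
  have hM : ∀ r : ↥t', ∃ M : ℕ, ∀ i d, M < d →
      PowerSeries.coeff d (c.ev (S.basicOpen r.1) (P r) i) = 0 := fun r => c.exists_bound _ _
  choose Mr hMr using hM
  let M := Finset.univ.sup Mr
  have hs : ∀ i d, M < d → PowerSeries.coeff d (s i) = 0 := by
    intro i d hd
    refine X.sheaf.eq_of_locally_eq' (fun r : ↥t' => c.W i (S.basicOpen r.1)) (c.W i U)
      (fun r => homOfLE (c.W_mono i (S.basicOpen_le r.1))) ?_ _ _ fun r => ?_
    · intro x hx
      have hc := (hU.iSup_basicOpen_eq_self_iff (s := (t' : Set Γ(S, U)))).mpr ht''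
      have hx2 : f.base x ∈ (⨆ r : (t' : Set Γ(S, U)), S.basicOpen r.1) := by rw [hc]; exact hx.2
      obtain ⟨r, hr⟩ := Opens.mem_iSup.mp hx2
      exact Opens.mem_iSup.mpr ⟨⟨r.1, r.2⟩, hx.1, hr⟩
    · change res _ _ = res _ _
      rw [map_zero, ← coeff_ambRes c (S.basicOpen_le r.1), ← hP r]
      exact hMr r i d (lt_of_le_of_lt (Finset.le_sup (Finset.mem_univ r)) hd)
  let I : Ideal Γ(S, U) :=
    { carrier := {a | c.cst U a * s ∈ (c.ev U).range}
      zero_mem' := ⟨0, by rw [map_zero, map_zero, zero_mul]⟩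
      add_mem' := fun {a b} ha hb => by
        simp only [Set.mem_setOf_eq, map_add, add_mul] at *
        exact add_mem ha hb
      smul_mem' := fun a b hb => by
        simp only [Set.mem_setOf_eq, smul_eq_mul, map_mul, mul_assoc] at *
        exact mul_mem ⟨_, rfl⟩ hb }
  have hpow : ∀ r : ↥t', ∃ n, r.1 ^ n ∈ I := by
    intro r
    obtain ⟨n, P', hP'⟩ := exists_polyRes_eq hU r.1 (P r)
    let e : c.Amb U := c.cst U (r.1 ^ n) * s - c.ev U P'
    have he : c.ambRes (S.basicOpen_le r.1) e = 0 := by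
      simp only [e, map_sub, map_mul]
      rw [c.ambRes_ev, hP', map_mul, hP r, RingHom.comp_apply, c.ambRes_ev, sub_self]
    let M' := max M P'.totalDegree
    have hk : ∀ p : Fin (N + 1) × Fin (M' + 1), ∃ k : ℕ,
        c.str p.1 U r.1 ^ k * PowerSeries.coeff p.2.1 (e p.1) = 0 := fun p => by
      refine c.exists_pow_mul_eq_zero hU r.1 _ ?_
      rw [← coeff_ambRes c (S.basicOpen_le r.1), he]
      simp
    choose k hk using hk
    let K := Finset.univ.sup k
    refine ⟨K + n, ?_⟩
    have hz : c.cst U (r.1 ^ K) * e = 0 := by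
      funext i; ext d
      rw [coeff_cst_mul]
      simp only [Pi.zero_apply, map_zero]
      by_cases hd : d ≤ M'
      · obtain ⟨l, hl⟩ := Nat.exists_eq_add_of_le
          (Finset.le_sup (f := k) (Finset.mem_univ (i, (⟨d, by omega⟩ : Fin (M' + 1)))))
        rw [map_pow, show K = k (i, ⟨d, _⟩) + l from hl, pow_add, mul_comm (_ ^ _) (_ ^ l), mul_assoc,
          hk (i, ⟨d, by omega⟩), mul_zero]
      · have h1 : M < d := by omega
        have h2 : P'.totalDegree < d := by omega
        have : PowerSeries.coeff d (e i) = 0 := by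
          simp only [e, Pi.sub_apply, map_sub, coeff_cst_mul, hs i d h1, mul_zero, coeff_ev, coeff_evP,
            MvPolynomial.homogeneousComponent_eq_zero _ _ h2, map_zero, sub_zero]
        rw [this, mul_zero]
    refine ⟨MvPolynomial.C (r.1 ^ K) * P', ?_⟩
    rw [map_mul, pow_add, map_mul, mul_assoc]
    rw [mul_sub, sub_eq_zero] at hz
    exact hz.symm
  choose n hn using hpow
  let n0 := Finset.univ.sup n
  have hI : I = ⊤ := by
    rw [eq_top_iff, ← Ideal.span_pow_eq_top (t' : Set Γ(S, U)) ht'' n0, Ideal.span_le]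
    rintro _ ⟨r, hr, rfl⟩
    obtain ⟨l, hl⟩ := Nat.exists_eq_add_of_le (Finset.le_sup (f := n) (Finset.mem_univ (⟨r, hr⟩ : ↥t')))
    change r ^ n0 ∈ I
    rw [show n0 = n ⟨r, hr⟩ + l from hl, pow_add]
    exact I.mul_mem_right _ (hn ⟨r, hr⟩)
  have h1 : (1 : Γ(S, U)) ∈ I := hI ▸ Submodule.mem_top
  simpa [I] using h1

/-! ### The algebra -/

/-- The families of power series which over every affine open are images of polynomials. -/
def B (V : S.Opens) : Subring (c.Amb V) :=
  ⨅ (U : S.Opens) (_ : IsAffineOpen U) (h : U ≤ V), (c.ev U).range.comap (c.ambRes h)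

theorem mem_B_iff {V : S.Opens} (s : c.Amb V) :
    s ∈ c.B V ↔ ∀ U, IsAffineOpen U → ∀ h : U ≤ V, c.ambRes h s ∈ (c.ev U).range := by
  simp [B, Subring.mem_iInf]

theorem ev_mem_B (V : S.Opens) (P) : c.ev V P ∈ c.B V := by
  rw [mem_B_iff]
  intro U _ h
  exact ⟨polyRes h P, (c.ambRes_ev h P).symm⟩

theorem B_eq_range {U : S.Opens} (hU : IsAffineOpen U) : c.B U = (c.ev U).range := by
  refine le_antisymm (fun s hs => ?_) (by rintro _ ⟨P, rfl⟩; exact c.ev_mem_B U P)
  have h := (c.mem_B_iff s).mp hs U hU le_rfl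
  rwa [c.ambRes_self] at h

/-- Restriction of the algebra. -/
def bRes {V V' : S.Opens} (h : V' ≤ V) : c.B V →+* c.B V' :=
  ((c.ambRes h).comp (c.B V).subtype).codRestrict (c.B V') fun s => by
    rw [mem_B_iff]
    intro U hU hUV
    rw [RingHom.comp_apply, c.ambRes_ambRes]
    exact (c.mem_B_iff _).mp s.2 U hU (hUV.trans h)

@[simp] theorem coe_bRes {V V' : S.Opens} (h : V' ≤ V) (s : c.B V) :
    (c.bRes h s : c.Amb V') = c.ambRes h s := rfl

/-- The presheaf of homogeneous coordinate rings. -/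
def presheaf : TopCat.Presheaf CommRingCat.{u} S.carrier where
  obj V := CommRingCat.of (c.B V.unop)
  map i := CommRingCat.ofHom (c.bRes (leOfHom i.unop))
  map_id V := CommRingCat.hom_ext <| RingHom.ext fun s => Subtype.ext (c.ambRes_self le_rfl _)
  map_comp i j := CommRingCat.hom_ext <| RingHom.ext fun s =>
    Subtype.ext (c.ambRes_ambRes (leOfHom i.unop) (leOfHom j.unop) s.1).symm

theorem presheaf_map_apply {V V' : S.Opens} (h : V' ≤ V) (s : c.B V) :
    (c.presheaf.map (homOfLE h).op).hom s = c.bRes h s := rfl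

theorem isSheaf : c.presheaf.IsSheaf := by
  rw [TopCat.Presheaf.isSheaf_iff_isSheafUniqueGluing]
  intro ι V sf hsf
  have hcov : ∀ i, c.W i (iSup V) ≤ ⨆ k, c.W i (V k) := by
    intro i x hx
    obtain ⟨k, hk⟩ := Opens.mem_iSup.mp (show f.base x ∈ iSup V from hx.2)
    exact Opens.mem_iSup.mpr ⟨k, hx.1, hk⟩
  have key : ∀ i (d : ℕ), ∃! a : Γ(X, c.W i (iSup V)),
      ∀ k, res (c.W_mono i (le_iSup V k)) a = PowerSeries.coeff d ((sf k).1 i) := by
    intro i d
    refine X.sheaf.existsUnique_gluing' (fun k => c.W i (V k)) (c.W i (iSup V))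
      (fun k => homOfLE (c.W_mono i (le_iSup V k))) (hcov i) _ fun k l => ?_
    have h1 : c.ambRes inf_le_left (sf k).1 = c.ambRes inf_le_right (sf l).1 :=
      congrArg Subtype.val (hsf k l)
    have hle : c.W i (V k) ⊓ c.W i (V l) ≤ c.W i (V k ⊓ V l) := fun x hx => ⟨hx.1.1, hx.1.2, hx.2.2⟩
    have h2 := congrArg (fun s : c.Amb (V k ⊓ V l) => res hle (PowerSeries.coeff d (s i))) h1
    simp only [coeff_ambRes, res_res] at h2
    exact h2
  choose a ha hau using key
  let s : c.Amb (iSup V) := fun i => PowerSeries.mk (a i)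
  have hs : ∀ k, c.ambRes (le_iSup V k) s = (sf k).1 := by
    intro k; funext i; ext d
    rw [coeff_ambRes, PowerSeries.coeff_mk]
    exact ha i d k
  have hmem : s ∈ c.B (iSup V) := by
    rw [mem_B_iff]
    intro U hU hle
    refine c.mem_range_ev_of_local hU _ {r | ∃ k, S.basicOpen r ≤ V k} ?_ ?_
    · rw [← hU.iSup_basicOpen_eq_self_iff]
      refine le_antisymm (iSup_le fun r => S.basicOpen_le r.1) fun x hx => ?_
      obtain ⟨k, hk⟩ := Opens.mem_iSup.mp (hle hx)
      obtain ⟨r, hr, hxr⟩ := hU.exists_basicOpen_le (V := V k) ⟨x, hk⟩ hx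
      exact Opens.mem_iSup.mpr ⟨⟨r, k, hr⟩, hxr⟩
    · rintro r ⟨k, hrk⟩
      rw [ambRes_ambRes, ← ambRes_ambRes c (le_iSup V k) hrk, hs]
      exact (c.mem_B_iff _).mp (sf k).2 _ (hU.basicOpen r) hrk
  refine ⟨⟨s, hmem⟩, fun k => Subtype.ext (hs k), fun t ht => Subtype.ext ?_⟩
  funext i; ext d
  rw [PowerSeries.coeff_mk]
  refine hau i d _ fun k => ?_
  rw [← coeff_ambRes c (le_iSup V k)]
  exact congrArg (fun z => PowerSeries.coeff d (z i)) (congrArg Subtype.val (ht k))

/-- The structure map. -/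
def strMap : S.presheaf ⟶ c.presheaf where
  app V := CommRingCat.ofHom ((c.cst V.unop).codRestrict (c.B V.unop) fun _ => c.ev_mem_B _ _)
  naturality V V' i := by
    ext a : 2
    apply Subtype.ext
    change c.ev V'.unop _ = c.ambRes (leOfHom i.unop) (c.ev V.unop _)
    rw [c.ambRes_ev]
    simp [polyRes]
    rfl

theorem coe_strMap {V : S.Opens} (a : Γ(S, V)) :
    (show c.B V from (c.strMap.app (op V)).hom a).1 = c.cst V a := rfl

theorem isQC : RelSpec.IsQC c.presheaf c.strMap := by
  intro U hU r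
  letI := (c.presheaf.map (homOfLE (S.basicOpen_le r)).op).hom.toAlgebra
  have hmap : ∀ z, algebraMap (c.presheaf.obj (op U)) (c.presheaf.obj (op (S.basicOpen r))) z =
      c.bRes (S.basicOpen_le r) z := fun z => rfl
  refine IsLocalization.Away.mk _ ?_ ?_ ?_
  · rw [hmap]
    have hu : IsUnit ((S.presheaf.map (homOfLE (S.basicOpen_le r)).op).hom r) :=
      RingedSpace.isUnit_res_basicOpen S.toRingedSpace r
    have h := hu.map (c.strMap.app (op (S.basicOpen r))).hom
    convert h using 1
    exact (congrArg (fun g => g.hom r) (c.strMap.naturality (homOfLE (S.basicOpen_le r)).op)).symm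
  · intro z
    obtain ⟨P, hP⟩ := (c.B_eq_range (hU.basicOpen r)).le z.2
    obtain ⟨n, P', hP'⟩ := exists_polyRes_eq hU r P
    refine ⟨n, ⟨c.ev U P', c.ev_mem_B U P'⟩, ?_⟩
    rw [hmap, hmap]
    refine @Subtype.ext (c.Amb (S.basicOpen r)) (fun y => y ∈ c.B (S.basicOpen r)) _ _ ?_
    change z.1 * c.ambRes (S.basicOpen_le r) (c.cst U r) ^ n = c.ambRes (S.basicOpen_le r) (c.ev U P')
    rw [← map_pow, ← map_pow, RingHom.comp_apply, c.ambRes_ev, c.ambRes_ev, hP', map_mul, hP, mul_comm]
  · intro a b hab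
    rw [hmap, hmap] at hab
    obtain ⟨P, hP⟩ := (c.B_eq_range hU).le (a - b).2
    obtain ⟨M, hM⟩ := c.exists_bound U P
    have he : c.ambRes (S.basicOpen_le r) (a - b : c.B U).1 = 0 := by
      have := congrArg Subtype.val hab
      change c.ambRes _ (a.1 - b.1) = 0
      rw [map_sub, sub_eq_zero]
      exact this
    have hk : ∀ p : Fin (N + 1) × Fin (M + 1), ∃ k : ℕ,
        c.str p.1 U r ^ k * PowerSeries.coeff p.2.1 ((a - b : c.B U).1 p.1) = 0 := fun p => by
      refine c.exists_pow_mul_eq_zero hU r _ ?_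
      rw [← coeff_ambRes c (S.basicOpen_le r), he]
      simp
    choose k hk using hk
    refine ⟨Finset.univ.sup k, ?_⟩
    rw [← sub_eq_zero, ← mul_sub]
    apply Subtype.ext
    rw [← map_pow]
    change c.cst U (r ^ _) * (a - b : c.B U).1 = 0
    funext i; ext d
    rw [coeff_cst_mul]
    simp only [Pi.zero_apply, map_zero]
    by_cases hd : d ≤ M
    · obtain ⟨l, hl⟩ := Nat.exists_eq_add_of_le
        (Finset.le_sup (f := k) (Finset.mem_univ (i, (⟨d, by omega⟩ : Fin (M + 1)))))
      rw [map_pow, hl, pow_add, mul_comm (_ ^ _) (_ ^ l), mul_assoc, hk (i, ⟨d, by omega⟩), mul_zero]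
    · rw [← hP, hM i d (by omega), mul_zero]

/-! ### The grading -/

/-- The degree-`d` part: only the coefficients of degree `d` are non-zero. -/
def deg (U : S.Opens) (d : ℕ) : AddSubgroup (c.B U) where
  carrier := {s | ∀ i n, n ≠ d → PowerSeries.coeff n ((s : c.Amb U) i) = 0}
  zero_mem' i n _ := by simp
  add_mem' {a b} ha hb i n hn := by simp [ha i n hn, hb i n hn]
  neg_mem' {a} ha i n hn := by simp [ha i n hn]

theorem mem_deg {U : S.Opens} {d : ℕ} (s : c.B U) :
    s ∈ c.deg U d ↔ ∀ i n, n ≠ d → PowerSeries.coeff n ((s : c.Amb U) i) = 0 := Iff.rfl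

theorem ev_mem_deg {U : S.Opens} {d : ℕ} {P} (hP : P.IsHomogeneous d) :
    (⟨c.ev U P, c.ev_mem_B U P⟩ : c.B U) ∈ c.deg U d := by
  intro i n hn
  rw [coeff_ev, c.evP_of_homogeneous i U hP, Polynomial.coeff_monomial, if_neg (Ne.symm hn)]

theorem exists_homogeneous_of_mem_deg {U : S.Opens} (hU : IsAffineOpen U) {d : ℕ} {s : c.B U}
    (hs : s ∈ c.deg U d) : ∃ P, P.IsHomogeneous d ∧ c.ev U P = s.1 := by
  obtain ⟨P, hP⟩ := (c.B_eq_range hU).le s.2
  refine ⟨MvPolynomial.homogeneousComponent d P,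
    MvPolynomial.homogeneousComponent_isHomogeneous d P, ?_⟩
  funext i; ext n
  rw [coeff_ev, c.evP_of_homogeneous i U (MvPolynomial.homogeneousComponent_isHomogeneous d P),
    Polynomial.coeff_monomial]
  split_ifs with h
  · subst h
    rw [← hP, coeff_ev, coeff_evP]
  · exact (hs i n (Ne.symm h)).symm

instance gradedMonoid (U : S.Opens) : SetLike.GradedMonoid (c.deg U) where
  one_mem i n hn := by
    simp only [OneMemClass.coe_one, Pi.one_apply, PowerSeries.coeff_one, if_neg hn]
  mul_mem a b x y hx hy i n hn := by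
    simp only [MulMemClass.coe_mul, Pi.mul_apply, PowerSeries.coeff_mul]
    refine Finset.sum_eq_zero fun p hp => ?_
    rw [Finset.HasAntidiagonal.mem_antidiagonal] at hp
    by_cases h : p.1 = a
    · rw [hy i p.2 (by omega), mul_zero]
    · rw [hx i p.1 h, zero_mul]

theorem isInternal {U : S.Opens} (hU : IsAffineOpen U) : DirectSum.IsInternal (c.deg U) := by
  classical
  constructor
  · intro x y hxy
    refine DFinsupp.ext fun d => Subtype.ext (Subtype.ext ?_)
    funext i
    ext n
    by_cases hn : n = d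
    · subst hn
      have key : ∀ z : DirectSum ℕ fun k => c.deg U k,
          PowerSeries.coeff n ((DirectSum.coeAddMonoidHom (c.deg U) z : c.Amb U) i) =
            PowerSeries.coeff n ((z n : c.B U).1 i) := by
        intro z
        induction z using DirectSum.induction_on with
        | zero => simp
        | of k a =>
          rw [DirectSum.coeAddMonoidHom_of]
          by_cases hk : k = n
          · subst hk; rw [DirectSum.of_eq_same]
          · rw [DirectSum.of_eq_of_ne _ _ _ (Ne.symm hk), a.2 i n (Ne.symm hk)]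
            simp
        | add z w hz hw => simp [map_add, DirectSum.add_apply, hz, hw]
      rw [← key x, ← key y, hxy]
    · rw [(x d).2 i n hn, (y d).2 i n hn]
  · intro s
    obtain ⟨P, hP⟩ := (c.B_eq_range hU).le s.2
    refine ⟨∑ d ∈ Finset.range (P.totalDegree + 1), DirectSum.of (fun k => c.deg U k) d
      ⟨_, c.ev_mem_deg (MvPolynomial.homogeneousComponent_isHomogeneous d P)⟩, ?_⟩
    apply Subtype.ext
    simp only [map_sum, DirectSum.coeAddMonoidHom_of, AddSubmonoidClass.coe_finsetSum]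
    rw [← map_sum, MvPolynomial.sum_homogeneousComponent, hP]

/-- The graded ring structure over an affine open. -/
@[implicit_reducible]
def graded {U : S.Opens} (hU : IsAffineOpen U) : GradedRing (c.deg U) :=
  letI := (c.isInternal hU).chooseDecomposition
  { c.gradedMonoid U, ‹DirectSum.Decomposition (c.deg U)› with }

/-- The quasi-coherent graded algebra of homogeneous coordinate rings. -/
def alg : RelProj.QCGrAlg S where
  presheaf := c.presheaf
  isSheaf := c.isSheaf
  str := c.strMap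
  isQC := c.isQC
  deg U _ d := c.deg U d
  graded _ hU := c.graded hU
  map_mem {U V} _ _ h {d x} hx i n hn := by
    change PowerSeries.coeff n (c.ambRes h (x : c.B U).1 i) = 0
    rw [coeff_ambRes, hx i n hn, map_zero]
  str_mem U _ r := c.ev_mem_deg (MvPolynomial.isHomogeneous_C _ r)

end Coord

end GrothLib.ProjAlg
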