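import Groth.Prelude.Def_RelProj
import Groth.Agent.Lib.ProjSp.Coords

/-!
# Projective coordinates of a closed subscheme of projective space over a base

`Coord f N` records what a closed immersion over `S` into `P^N_S` provides: the pieces where the `i`-th coordinate
is invertible, the coordinate ratios on them, their affineness over affine opens of the base, and the fact that
the ratios generate the functions there over the functions of the base.
-/

universe u

set_option backward.isDefEq.respectTransparency false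

open AlgebraicGeometry CategoryTheory CategoryTheory.Limits HomogeneousLocalization MvPolynomial
  GrothLib.ProjPt GrothLib.ProjSpCoord TopologicalSpace

namespace GrothLib.ProjAlg

variable {X S : Scheme.{u}}

/-- Restriction of sections. -/
noncomputable abbrev res {U V : X.Opens} (h : V ≤ U) : Γ(X, U) →+* Γ(X, V) :=
  (X.presheaf.map (homOfLE h).op).hom

theorem res_res {U V W : X.Opens} (h : V ≤ U) (h' : W ≤ V) (a : Γ(X, U)) :
    res h' (res h a) = res (h'.trans h) a := by
  rw [res, res, res, ← CommRingCat.comp_apply, ← Functor.map_comp]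
  rfl

theorem res_self {U : X.Opens} (h : U ≤ U) (a : Γ(X, U)) : res h a = a := by
  have : (homOfLE h).op = 𝟙 (Opposite.op U) := rfl
  rw [res, this, CategoryTheory.Functor.map_id]
  rfl

theorem ι_appTop_apply {W : X.Opens} (a : Γ(X, ⊤)) :
    W.topIso.hom.hom (W.ι.appTop.hom a) = res (le_top : W ≤ ⊤) a := by
  rw [← CommRingCat.comp_apply, Scheme.Opens.ι_appTop, Scheme.Opens.topIso_hom, ← Functor.map_comp]
  rfl

/-- Projective coordinates of `X` over `S`. -/
structure Coord (f : X ⟶ S) (N : ℕ) where
  /-- the piece where the `i`-th coordinate is invertible -/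
  D : Fin (N + 1) → X.Opens
  /-- the ratio of the `k`-th by the `i`-th coordinate -/
  x : ∀ i, Fin (N + 1) → Γ(X, D i)
  cover : ⨆ i, D i = ⊤
  self : ∀ i, x i i = 1
  basic : ∀ i j, X.basicOpen (x i j) = D i ⊓ D j
  change : ∀ i j k, res (inf_le_left : D i ⊓ D j ≤ D i) (x i k) =
    res (inf_le_left : D i ⊓ D j ≤ D i) (x i j) * res (inf_le_right : D i ⊓ D j ≤ D j) (x j k)
  affine : ∀ (i : Fin (N + 1)) (U : S.Opens), IsAffineOpen U → IsAffineOpen (D i ⊓ f ⁻¹ᵁ U)
  gen : ∀ (i : Fin (N + 1)) (U : S.Opens), IsAffineOpen U →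
    Subring.closure (Set.range (f.appLE U (D i ⊓ f ⁻¹ᵁ U) inf_le_right).hom ∪
      Set.range fun k => res (inf_le_left : D i ⊓ f ⁻¹ᵁ U ≤ D i) (x i k)) = ⊤

section ofImmersion

variable {N : ℕ} (f : X ⟶ S) (c : X ⟶ CohB1.ProjSpaceOver N S)

/-- The composite with the projection to projective space over the integers. -/
noncomputable def toPZ : X ⟶ Proj (CohB1.polyGrading N RZ.{u}) :=
  c ≫ pullback.fst _ _

/-- The piece where the `i`-th coordinate is invertible. -/
noncomputable def piece (i : Fin (N + 1)) : X.Opens :=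
  toPZ c ⁻¹ᵁ Proj.basicOpen (CohB1.polyGrading N RZ.{u}) (MvPolynomial.X i)

theorem exists_coordHom (i : Fin (N + 1)) :
    ∃ g : Away (CohB1.polyGrading N RZ.{u}) (MvPolynomial.X i) →+* Γ((piece c i).toScheme, ⊤),
      (piece c i).ι ≫ toPZ c = pt (CohB1.polyGrading N RZ.{u}) (X_mem_one i) one_pos g := by
  refine exists_eq_pt (CohB1.polyGrading N RZ.{u}) (X_mem_one i) one_pos _ ?_
  rw [Scheme.Hom.comp_preimage]
  exact (piece c i).ι_preimage_self

/-- The chart homomorphism on a piece. -/
noncomputable def coordHom (i : Fin (N + 1)) :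
    Away (CohB1.polyGrading N RZ.{u}) (MvPolynomial.X i) →+* Γ(X, piece c i) :=
  ((piece c i).topIso.hom.hom).comp (exists_coordHom c i).choose

theorem restrict_toPZ (i : Fin (N + 1)) {W : X.Opens} (h : W ≤ piece c i) :
    W.ι ≫ toPZ c = pt (CohB1.polyGrading N RZ.{u}) (X_mem_one i) one_pos
      ((W.topIso.inv.hom).comp ((res h).comp (coordHom c i))) := by
  rw [← X.homOfLE_ι h, Category.assoc, (exists_coordHom c i).choose_spec, comp_pt]
  congr 1
  have key : (piece c i).topIso.hom ≫ X.presheaf.map (homOfLE h).op ≫ W.topIso.inv =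
      (X.homOfLE h).appTop := by
    rw [← Category.assoc, Iso.comp_inv_eq]
    simp only [Scheme.Opens.topIso_hom, Scheme.homOfLE_appTop, Scheme.Opens.toScheme_presheaf_map,
      ← Functor.map_comp]
    rfl
  refine RingHom.ext fun a => ?_
  simp only [RingHom.comp_apply, coordHom]
  exact DFunLike.congr_fun (congrArg CommRingCat.Hom.hom key.symm) _

theorem closed_coord_affine [IsAffineHom c] (hc : c ≫ CohB1.ProjSpaceOver.toBase N S = f)
    (i : Fin (N + 1)) (U : S.Opens) (hU : IsAffineOpen U) :
    IsAffineOpen (piece c i ⊓ f ⁻¹ᵁ U) := by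
  subst hc
  let a := Proj.awayι (CohB1.polyGrading N RZ.{u}) (MvPolynomial.X i) (X_mem_one i) one_pos
  haveI : IsAffine U.toScheme := hU
  let ι : pullback (a ≫ CohB1.ProjSpace.toSpec N RZ.{u}) (U.ι ≫ specULiftZIsTerminal.from S) ⟶
      CohB1.ProjSpaceOver N S :=
    pullback.map _ _ _ _ a U.ι (𝟙 _) (by simp) (by simp)
  have hr : ι.opensRange = (pullback.fst _ _ : CohB1.ProjSpaceOver N S ⟶ _) ⁻¹ᵁ
      Proj.basicOpen (CohB1.polyGrading N RZ.{u}) (MvPolynomial.X i) ⊓
      CohB1.ProjSpaceOver.toBase N S ⁻¹ᵁ U := by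
    ext p
    change p ∈ Set.range ι ↔ _
    simp only [ι]
    erw [Scheme.Pullback.range_map]
    rw [
      ← Proj.opensRange_awayι (CohB1.polyGrading N RZ.{u}) (MvPolynomial.X i) (X_mem_one i) one_pos,
      Scheme.Opens.range_ι]
    rfl
  have h : IsAffineOpen ι.opensRange := isAffineOpen_opensRange ι
  have h2 := h.preimage c
  rw [hr] at h2
  exact h2

theorem closed_coord_gen [IsClosedImmersion c] (hc : c ≫ CohB1.ProjSpaceOver.toBase N S = f)
    (i : Fin (N + 1)) (U : S.Opens) (hU : IsAffineOpen U) :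
    Subring.closure (Set.range (f.appLE U (piece c i ⊓ f ⁻¹ᵁ U) inf_le_right).hom ∪
      Set.range fun k => res (inf_le_left : piece c i ⊓ f ⁻¹ᵁ U ≤ piece c i)
        (coordHom c i (ratio i k))) = ⊤ := by
  let W : X.Opens := piece c i ⊓ f ⁻¹ᵁ U
  set B : Subring Γ(X, W) := Subring.closure (Set.range (f.appLE U W inf_le_right).hom ∪
    Set.range fun k => res (inf_le_left : W ≤ piece c i) (coordHom c i (ratio i k))) with hB
  haveI : IsAffine W.toScheme := closed_coord_affine f c hc i U hU
  haveI : IsAffine U.toScheme := hU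
  -- the coordinate homomorphism lands in `B`
  have hev : ∀ a, res (inf_le_left : W ≤ piece c i) (coordHom c i a) ∈ B := by
    let φ : MvPolynomial (Fin (N + 1)) RZ.{u} →+* B := evalTuple fun k =>
      ⟨res (inf_le_left : W ≤ piece c i) (coordHom c i (ratio i k)),
        Subring.subset_closure (Or.inr ⟨k, rfl⟩)⟩
    have hφ : IsUnit (φ (MvPolynomial.X i)) := by
      rw [evalTuple_X]
      have : (⟨res (inf_le_left : W ≤ piece c i) (coordHom c i (ratio i i)),
          Subring.subset_closure (Or.inr ⟨i, rfl⟩)⟩ : B) = 1 := by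
        apply Subtype.ext
        show res (inf_le_left : W ≤ piece c i) (coordHom c i (ratio i i)) = 1
        rw [ratio_self_map, map_one]
      rw [this]
      exact isUnit_one
    have heq : (res (inf_le_left : W ≤ piece c i)).comp (coordHom c i) =
        B.subtype.comp (evalAway (CohB1.polyGrading N RZ.{u}) φ (MvPolynomial.X i) hφ) := by
      refine awayHom_ext fun k => ?_
      have h1 := evalAway_ratio φ i k hφ
      have h2 : φ (MvPolynomial.X i) = 1 := by
        apply Subtype.ext
        simp only [φ, evalTuple_X]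
        rw [ratio_self_map, map_one]
        rfl
      rw [h2, mul_one] at h1
      have h7 := congrArg B.subtype h1
      refine Eq.trans ?_ h7.symm
      simp only [φ, evalTuple_X]
      rfl
    intro a
    have := RingHom.congr_fun heq a
    rw [RingHom.comp_apply] at this
    rw [this]
    exact SetLike.coe_mem (evalAway (CohB1.polyGrading N RZ.{u}) φ (MvPolynomial.X i) hφ a)
  -- factor through `Spec B`
  let τ : W.toScheme ⟶ Spec (CommRingCat.of B) :=
    W.toScheme.toSpecΓ ≫ Spec.map (CommRingCat.ofHom ((W.topIso.inv.hom).comp B.subtype))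
  let A0 := Away (CohB1.polyGrading N RZ.{u}) (MvPolynomial.X i)
  let α : A0 →+* B := ((res (inf_le_left : W ≤ piece c i)).comp (coordHom c i)).codRestrict B hev
  let β : Γ(S, U) →+* B :=
    (f.appLE U W inf_le_right).hom.codRestrict B fun r => Subring.subset_closure (Or.inl ⟨r, rfl⟩)
  let q : Spec (CommRingCat.of B) ⟶ CohB1.ProjSpaceOver N S :=
    pullback.lift (Spec.map (CommRingCat.ofHom α) ≫
        Proj.awayι (CohB1.polyGrading N RZ.{u}) (MvPolynomial.X i) (X_mem_one i) one_pos)
      (Spec.map (CommRingCat.ofHom β) ≫ hU.fromSpec) (specULiftZIsTerminal.hom_ext _ _)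
  have hq : τ ≫ q = W.ι ≫ c := by
    apply pullback.hom_ext
    · rw [Category.assoc, Category.assoc, pullback.lift_fst]
      change _ = W.ι ≫ toPZ c
      rw [restrict_toPZ c i (inf_le_left : W ≤ piece c i)]
      simp only [τ, pt, Category.assoc, ← Spec.map_comp_assoc]
      rfl
    · rw [Category.assoc, Category.assoc, pullback.lift_snd]
      change _ = W.ι ≫ c ≫ CohB1.ProjSpaceOver.toBase N S
      rw [hc]
      simp only [τ, Category.assoc, ← Spec.map_comp_assoc]
      have h1 : (CommRingCat.ofHom β ≫ CommRingCat.ofHom ((W.topIso.inv.hom).comp B.subtype)) =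
          f.appLE U W inf_le_right ≫ W.topIso.inv := rfl
      have hWa : IsAffineOpen W := closed_coord_affine f c hc i U hU
      rw [h1, Spec.map_comp, Category.assoc, IsAffineOpen.SpecMap_appLE_fromSpec f hU hWa]
      change W.toSpecΓ ≫ hWa.fromSpec ≫ f = _
      rw [← Category.assoc, hWa.toSpecΓ_fromSpec]
  haveI : IsClosedImmersion τ := by
    let O : (CohB1.ProjSpaceOver N S).Opens :=
      (pullback.fst _ _ : CohB1.ProjSpaceOver N S ⟶ _) ⁻¹ᵁ
        Proj.basicOpen (CohB1.polyGrading N RZ.{u}) (MvPolynomial.X i) ⊓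
        CohB1.ProjSpaceOver.toBase N S ⁻¹ᵁ U
    have hW : c ⁻¹ᵁ O = W := by
      rw [Scheme.Hom.preimage_inf, ← Scheme.Hom.comp_preimage, ← Scheme.Hom.comp_preimage, hc]
      rfl
    have hqO : q ⁻¹ᵁ O = ⊤ := by
      rw [Scheme.Hom.preimage_inf, ← Scheme.Hom.comp_preimage, ← Scheme.Hom.comp_preimage]
      refine top_le_iff.mp (le_inf ?_ ?_)
      · rw [pullback.lift_fst, Scheme.Hom.comp_preimage,
          ← Proj.opensRange_awayι (CohB1.polyGrading N RZ.{u}) (MvPolynomial.X i) (X_mem_one i) one_pos,
          Scheme.Hom.preimage_opensRange]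
        exact le_rfl
      · rw [show q ≫ CohB1.ProjSpaceOver.toBase N S = Spec.map (CommRingCat.ofHom β) ≫ hU.fromSpec from
          pullback.lift_snd _ _ _, Scheme.Hom.comp_preimage, hU.fromSpec_preimage_self]
        exact le_rfl
    haveI : IsClosedImmersion (c ∣_ O) := IsZariskiLocalAtTarget.restrict (P := @IsClosedImmersion) inferInstance O
    let q' : Spec (CommRingCat.of B) ⟶ O.toScheme := IsOpenImmersion.lift O.ι q (by
      rintro _ ⟨p, rfl⟩
      rw [Scheme.Opens.range_ι]
      have : p ∈ q ⁻¹ᵁ O := by rw [hqO]; trivial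
      exact this)
    have h2 : τ ≫ q' = (X.isoOfEq hW).inv ≫ c ∣_ O := by
      rw [← cancel_mono O.ι]
      simp [q', hq]
    haveI : IsClosedImmersion (τ ≫ q') := by rw [h2]; infer_instance
    exact IsClosedImmersion.of_comp τ q'
  rw [eq_top_iff]
  intro a _
  have hsurj : Function.Surjective τ.appTop := τ.app_surjective ⊤ (isAffineOpen_top _)
  obtain ⟨b, hb⟩ := hsurj (W.topIso.inv.hom a)
  have h3 : (Scheme.ΓSpecIso (CommRingCat.of B)).inv ≫ τ.appTop =
      CommRingCat.ofHom ((W.topIso.inv.hom).comp B.subtype) := by simp [τ]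
  have h4 := congrArg (fun g => g.hom ((Scheme.ΓSpecIso (CommRingCat.of B)).hom.hom b)) h3
  simp only [CommRingCat.comp_apply, CommRingCat.hom_ofHom, RingHom.comp_apply,
    Iso.hom_inv_id_apply] at h4
  have h6 : ((Scheme.ΓSpecIso (CommRingCat.of B)).inv ≫ τ.appTop).hom
      ((Scheme.ΓSpecIso (CommRingCat.of B)).hom.hom b) = W.topIso.inv.hom a := by
    rw [CommRingCat.comp_apply, Iso.hom_inv_id_apply]
    exact hb
  replace h4 := h6.symm.trans h4
  have h5 := congrArg W.topIso.hom.hom h4
  simp only [Iso.inv_hom_id_apply] at h5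
  rw [h5]
  exact SetLike.coe_mem _

/-- The coordinates of a closed subscheme of projective space over the base. -/
noncomputable def Coord.ofClosedImmersion [IsClosedImmersion c]
    (hc : c ≫ CohB1.ProjSpaceOver.toBase N S = f) : Coord f N where
  D := piece c
  x i k := coordHom c i (ratio i k)
  cover := by
    have h : ⨆ i : Fin (N + 1), Proj.basicOpen (CohB1.polyGrading N RZ.{u}) (MvPolynomial.X i) = ⊤ := by
      refine Proj.iSup_basicOpen_eq_top' _ _ (fun j => ⟨1, X_mem_one j⟩) ?_
      rw [eq_top_iff]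
      intro a ha
      clear ha
      induction a using MvPolynomial.induction_on with
      | C r =>
        exact Subalgebra.algebraMap_mem _
          (⟨C r, isHomogeneous_C _ r⟩ : CohB1.polyGrading N RZ.{u} 0)
      | add p q hp hq => exact Subalgebra.add_mem _ hp hq
      | mul_X p j hp => exact Subalgebra.mul_mem _ hp (Algebra.subset_adjoin ⟨j, rfl⟩)
    change ⨆ i, toPZ c ⁻¹ᵁ _ = ⊤
    rw [← Scheme.Hom.preimage_iSup, h, Scheme.Hom.preimage_top]
  self i := ratio_self_map _
  basic i j := by
    have h := preimage_basicOpen i j ((piece c i).ι ≫ toPZ c) _ (restrict_toPZ c i le_rfl)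
    rw [Scheme.Hom.comp_preimage] at h
    have h2 := congrArg ((piece c i).ι ''ᵁ ·) h
    rw [Scheme.Hom.image_preimage_eq_opensRange_inf, Scheme.Opens.opensRange_ι] at h2
    change _ = piece c i ⊓ piece c j
    rw [show piece c i ⊓ piece c j = _ from h2]
    rw [RingHom.comp_apply, RingHom.comp_apply, res_self, Scheme.Opens.ι_image_basicOpen_topIso_inv]

  change i j k := by
    let W : X.Opens := piece c i ⊓ piece c j
    have h := coords_change i j k (W.ι ≫ toPZ c) _ _
      (restrict_toPZ c i (inf_le_left : W ≤ _)) (restrict_toPZ c j (inf_le_right : W ≤ _))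
    have h2 := congrArg W.topIso.hom.hom h
    have key : ∀ (φ : Away (CohB1.polyGrading N RZ.{u}) (MvPolynomial.X i) →+* Γ(X, W)) a,
        W.topIso.hom.hom ((W.topIso.inv.hom.comp φ) a) = φ a :=
      fun φ a => Iso.inv_hom_id_apply W.topIso (φ a)
    have key' : ∀ (φ : Away (CohB1.polyGrading N RZ.{u}) (MvPolynomial.X j) →+* Γ(X, W)) a,
        W.topIso.hom.hom ((W.topIso.inv.hom.comp φ) a) = φ a :=
      fun φ a => Iso.inv_hom_id_apply W.topIso (φ a)
    rw [map_mul, key, key, key'] at h2
    exact h2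
  affine i U hU := closed_coord_affine f c hc i U hU
  gen i U hU := closed_coord_gen f c hc i U hU

end ofImmersion

end GrothLib.ProjAlg
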